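import Groth.Agent.GrpQ.K185.FamRep
import Groth.Agent.S0083
import Mathlib.AlgebraicGeometry.Morphisms.ClosedImmersion

/-!
# fpqc descent of closed and open subschemes

`IsFpqcLocal Q` : a predicate `Q` on morphisms `T ⟶ S` which is stable under precomposition and local for fpqc
coverings of `T`.

* `exists_closed` : if `Q` is fpqc local and, over the members of an fpqc covering family of `S`, `Q` is
  "factors through a closed subscheme", then `Q` is "factors through a closed subscheme" over `S`.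
* `exists_open` : the same for open subschemes.
* `IsFpqcLocal.ofFamily` : the predicate defined by a compatible family of subobjects.
-/

set_option autoImplicit false
set_option backward.isDefEq.respectTransparency false
set_option backward.isDefEq.respectTransparency.types false
universe u
open CategoryTheory CategoryTheory.Limits AlgebraicGeometry Opposite

namespace K185.SubDesc

open Groth.Agent.Desc.SecFunctor Groth.Agent.Desc.SecPresheaf Groth.Agent.Desc.SecDescent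
  Groth.Agent.Picfga.OverRep

/-- A point of `X` which factors locally for the fpqc topology through a monomorphism factors
through it. -/
theorem exists_fac_of_local {Z X T : Scheme.{u}} (z : Z ⟶ X) [Mono z] (x : T ⟶ X)
    (R : Presieve T) (hR : R ∈ Scheme.fpqcPrecoverage T)
    (h : ∀ ⦃T' : Scheme.{u}⦄ (g : T' ⟶ T), R g → ∃ v : T' ⟶ Z, v ≫ z = g ≫ x) :
    ∃ v : T ⟶ Z, v ≫ z = x := by
  have hJ : Sieve.generate R ∈ Scheme.fpqcTopology T := Precoverage.generate_mem_toGrothendieck hR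
  have hZ : Presieve.IsSheaf Scheme.fpqcTopology (yoneda.obj Z) :=
    GrothendieckTopology.Subcanonical.isSheaf_of_isRepresentable _
  have hX : Presieve.IsSheaf Scheme.fpqcTopology (yoneda.obj X) :=
    GrothendieckTopology.Subcanonical.isSheaf_of_isRepresentable _
  choose v hv using h
  have h1 := hZ _ hJ
  rw [← Presieve.isSheafFor_iff_generate] at h1
  let fam : Presieve.FamilyOfElements (yoneda.obj Z) R := fun T' g hg => v g hg
  have hc : fam.Compatible := by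
    intro T₁ T₂ W g₁ g₂ f₁ f₂ h₁ h₂ hg
    change g₁ ≫ v f₁ h₁ = g₂ ≫ v f₂ h₂
    rw [← cancel_mono z, Category.assoc, Category.assoc, hv, hv, ← Category.assoc,
      ← Category.assoc, hg]
  obtain ⟨w, hw, -⟩ := h1 fam hc
  refine ⟨w, ?_⟩
  have h2 := hX _ hJ
  rw [← Presieve.isSheafFor_iff_generate] at h2
  refine h2.isSeparatedFor.ext fun T' g hg => ?_
  change g ≫ (w ≫ z) = g ≫ x
  rw [← hv g hg, ← Category.assoc]
  congr 1
  exact hw g hg

/-- Two morphisms which agree locally for the fpqc topology are equal. -/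
theorem hom_ext_of_local {X T : Scheme.{u}} {x y : T ⟶ X}
    (R : Presieve T) (hR : R ∈ Scheme.fpqcPrecoverage T)
    (h : ∀ ⦃T' : Scheme.{u}⦄ (g : T' ⟶ T), R g → g ≫ x = g ≫ y) : x = y := by
  have hJ : Sieve.generate R ∈ Scheme.fpqcTopology T := Precoverage.generate_mem_toGrothendieck hR
  have hX : Presieve.IsSheaf Scheme.fpqcTopology (yoneda.obj X) :=
    GrothendieckTopology.Subcanonical.isSheaf_of_isRepresentable _
  have h2 := hX _ hJ
  rw [← Presieve.isSheafFor_iff_generate] at h2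
  exact h2.isSeparatedFor.ext fun T' g hg => h g hg

variable {S : Scheme.{u}}

/-- A predicate on morphisms to `S` stable under precomposition and local for the fpqc topology. -/
structure IsFpqcLocal (Q : ∀ ⦃T : Scheme.{u}⦄, (T ⟶ S) → Prop) : Prop where
  comp : ∀ ⦃T T' : Scheme.{u}⦄ (g : T' ⟶ T) (h : T ⟶ S), Q h → Q (g ≫ h)
  loc : ∀ ⦃T : Scheme.{u}⦄ (h : T ⟶ S) (R : Presieve T), R ∈ Scheme.fpqcPrecoverage T →
    (∀ ⦃T' : Scheme.{u}⦄ (g : T' ⟶ T), R g → Q (g ≫ h)) → Q h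

/-- The presheaf of sets attached to a predicate. -/
def preF (Q : ∀ ⦃T : Scheme.{u}⦄, (T ⟶ S) → Prop)
    (hQ : ∀ ⦃T T' : Scheme.{u}⦄ (g : T' ⟶ T) (h : T ⟶ S), Q h → Q (g ≫ h)) :
    (Over S)ᵒᵖ ⥤ Type u where
  obj T := ULift.{u} (PLift (Q T.unop.hom))
  map g := TypeCat.ofHom fun a => ⟨⟨by rw [← Over.w g.unop]; exact hQ _ _ a.down.down⟩⟩
  map_id _ := by ext ⟨⟨_⟩⟩; rfl
  map_comp _ _ := by ext ⟨⟨_⟩⟩; rfl

instance (Q : ∀ ⦃T : Scheme.{u}⦄, (T ⟶ S) → Prop)
    (hQ : ∀ ⦃T T' : Scheme.{u}⦄ (g : T' ⟶ T) (h : T ⟶ S), Q h → Q (g ≫ h)) (T : (Over S)ᵒᵖ) :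
    Subsingleton ((preF Q hQ).obj T) :=
  ⟨fun ⟨⟨_⟩⟩ ⟨⟨_⟩⟩ => rfl⟩

variable {Q : ∀ ⦃T : Scheme.{u}⦄, (T ⟶ S) → Prop} (hQ : IsFpqcLocal Q)

include hQ

theorem isDesc_preF {T' T : Over S} (g : T' ⟶ T) (h1 : Flat g.left) (h2 : Surjective g.left)
    (h3 : QuasiCompact g.left) : IsDesc (preF Q hQ.comp) g where
  inj _ _ _ := Subsingleton.elim _ _
  glue a _ := by
    refine ⟨⟨⟨?_⟩⟩, Subsingleton.elim _ _⟩
    refine hQ.loc T.hom _ g.left.singleton_mem_fpqcPrecoverage ?_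
    rintro _ _ ⟨⟩
    change Q (g.left ≫ T.hom)
    rw [Over.w g]
    exact a.down.down

theorem isZarSheaf_preF : IsZarSheaf (preF Q hQ.comp) := by
  intro T 𝒰 x _
  refine ⟨⟨⟨?_⟩⟩, fun _ => Subsingleton.elim _ _, fun _ _ => Subsingleton.elim _ _⟩
  have h1 : 𝒰.openCover.presieve₀ ∈ Scheme.fpqcPrecoverage T.left :=
    Scheme.zariskiPrecoverage_le_fpqcPrecoverage _ 𝒰.openCover.mem₀
  refine hQ.loc T.hom _ h1 ?_
  rintro _ _ ⟨i⟩
  change Q ((𝒰.j i).left ≫ T.hom)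
  rw [Over.w (𝒰.j i)]
  exact (x i).down.down

/-- The restriction of the presheaf of a predicate is representable by a subobject when the
predicate is. -/
theorem nonempty_rep {X : Scheme.{u}} (f : X ⟶ S) {Z : Scheme.{u}} (z : Z ⟶ X) [Mono z]
    (h : ∀ ⦃T : Scheme.{u}⦄ (x : T ⟶ X), Q (x ≫ f) ↔ ∃ v : T ⟶ Z, v ≫ z = x) :
    Nonempty ((restr f (preF Q hQ.comp)).RepresentableBy (Over.mk z)) := by
  classical
  refine ⟨{
    homEquiv := fun {T} => Equiv.ofBijective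
      (fun g => (⟨⟨(h T.hom).2 ⟨g.left, Over.w g⟩⟩⟩ : ULift (PLift (Q (T.hom ≫ f)))))
      ⟨fun a b _ => ?_, ?_⟩
    homEquiv_comp := fun _ _ => ?_ }⟩
  · ext
    rw [← cancel_mono z]
    exact (Over.w a).trans (Over.w b).symm
  · rintro ⟨⟨a⟩⟩
    obtain ⟨v, hv⟩ := (h T.hom).1 a
    exact ⟨Over.homMk v hv, rfl⟩
  · rfl

/-- **fpqc descent of closed subschemes**, in terms of predicates. -/
theorem exists_closed {ι : Type u} {X : ι → Scheme.{u}} (f : ∀ i, X i ⟶ S)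
    (hf : Presieve.ofArrows X f ∈ Scheme.fpqcPrecoverage S)
    (H : ∀ i, ∃ (Z : Scheme.{u}) (z : Z ⟶ X i), IsClosedImmersion z ∧
      ∀ ⦃T : Scheme.{u}⦄ (x : T ⟶ X i), Q (x ≫ f i) ↔ ∃ v : T ⟶ Z, v ≫ z = x) :
    ∃ (Z : Scheme.{u}) (z : Z ⟶ S), IsClosedImmersion z ∧
      ∀ ⦃T : Scheme.{u}⦄ (h : T ⟶ S), Q h ↔ ∃ v : T ⟶ Z, v ≫ z = h := by
  have := Groth.Agent.S0083.result.{u}
  have hqa : ∀ {X Y : Scheme.{u}} (g : X ⟶ Y), IsClosedImmersion g → Mor2.IsQuasiAffine g := by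
    intro X Y g hg
    refine ⟨inferInstance, fun V hV => ?_⟩
    have h1 : IsAffine (g ⁻¹ᵁ V) := hV.preimage g
    infer_instance
  have hrep : ∀ i, ∃ E : Over (X i), IsClosedImmersion E.hom ∧
      Nonempty ((restr (f i) (preF Q hQ.comp)).RepresentableBy E) := by
    intro i
    obtain ⟨Z, z, hz, h⟩ := H i
    exact ⟨Over.mk z, hz, nonempty_rep hQ (f i) z h⟩
  obtain ⟨E, hE, ⟨e⟩⟩ := K185.FamRep.exists_rep_of_fpqcFamily f hf (preF Q hQ.comp)
    (isZarSheaf_preF hQ) (fun g h1 h2 h3 => isDesc_preF hQ g h1 h2 h3) @IsClosedImmersion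
    hqa hrep
  refine ⟨E.left, E.hom, hE, fun T h => ⟨fun hh => ?_, ?_⟩⟩
  · let y : (preF Q hQ.comp).obj (op (Over.mk h)) := ⟨⟨hh⟩⟩
    exact ⟨(e.homEquiv.symm y).left, Over.w (e.homEquiv.symm y)⟩
  · rintro ⟨v, rfl⟩
    exact hQ.comp _ _ (e.homEquiv (𝟙 E)).down.down

end K185.SubDesc
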