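import Groth.Agent.GrpQ.K185.IsQuot

/-!
# Covering sieves of the big site of `QuotSh` and families of the precoverage `K`

* `ofArrows_mem_J`, `singleton_mem_J` : families of `K` generate covering sieves.
* `exists_ofArrows_of_mem_J` : a covering sieve contains a family of `K`.
* `existsUnique_of_singleton`, `existsUnique_of_ofArrows` : gluing of sections.
* `locSurj_of_singleton`.
* `existsUnique_desc` : descent of a point of `U` to a section of `U/R` (S6041).
-/

set_option autoImplicit false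
universe u
open CategoryTheory CategoryTheory.Limits AlgebraicGeometry Opposite
open K185.QuotBasic K185.IsQuot

namespace K185.Cover

variable {K : Precoverage Scheme.{u}} {S : Scheme.{u}}

theorem ofArrows_mem_J {ι : Type*} {T : Over S} {Z : ι → Over S} (p : ∀ i, Z i ⟶ T)
    (hp : Presieve.ofArrows (fun i => (Z i).left) (fun i => (p i).left) ∈ K T.left) :
    Sieve.generate (Presieve.ofArrows Z p) ∈ QuotSh.J K S T := by
  rw [QuotSh.J, GrothendieckTopology.mem_over_iff]
  refine GrothendieckTopology.superset_covering _ ?_ (Precoverage.generate_mem_toGrothendieck hp)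
  rw [Sieve.generate_le_iff]
  rintro Y f ⟨i⟩
  rw [Sieve.overEquiv_iff]
  let e : Over.mk ((p i).left ≫ T.hom) ⟶ Z i := Over.homMk (𝟙 (Z i).left) (by
    change 𝟙 _ ≫ (Z i).hom = (p i).left ≫ T.hom
    rw [Category.id_comp, Over.w (p i)])
  exact ⟨Z i, e, p i, ⟨i⟩, by ext; exact Category.id_comp _⟩

theorem singleton_mem_J {T Z : Over S} (p : Z ⟶ T)
    (hp : Presieve.singleton p.left ∈ K T.left) :
    Sieve.generate (Presieve.singleton p) ∈ QuotSh.J K S T := by
  rw [← Presieve.ofArrows_pUnit.{0}] at hp ⊢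
  exact ofArrows_mem_J (fun _ : PUnit.{1} => p) hp

/-- A covering sieve of the big site contains a family of `K` (indexed by a type in universe `u`). -/
theorem exists_ofArrows_of_mem_J [K.IsStableUnderComposition] [K.IsStableUnderBaseChange] [K.HasPullbacks]
    [K.HasIsos] [Precoverage.Small.{u} K] {T : Over S} {R : Sieve T} (hR : R ∈ QuotSh.J K S T) :
    ∃ (ι : Type u) (Z : ι → Over S) (p : ∀ i, Z i ⟶ T),
      Presieve.ofArrows (fun i => (Z i).left) (fun i => (p i).left) ∈ K T.left ∧ ∀ i, R (p i) := by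
  rw [QuotSh.J, GrothendieckTopology.mem_over_iff,
    Precoverage.mem_toGrothendieck_iff_of_isStableUnderComposition] at hR
  obtain ⟨P, hP, hle⟩ := hR
  obtain ⟨E, rfl⟩ := Precoverage.mem_iff_exists_zeroHypercover.1 hP
  let E' := E.restrictIndexOfSmall
  refine ⟨E'.I₀, fun i => Over.mk (E'.f i ≫ T.hom), fun i => Over.homMk (E'.f i), E'.mem₀, fun i => ?_⟩
  have h1 : E.presieve₀ (E'.f i) := ⟨_⟩
  exact (Sieve.overEquiv_iff _ _).mp (hle _ _ h1)

theorem existsUnique_of_singleton (F : QuotSh.Sh K S) {T Z : Over S} (p : Z ⟶ T)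
    (hp : Presieve.singleton p.left ∈ K T.left) (x : F.obj.obj (op Z))
    (hx : ∀ {W : Over S} (z₁ z₂ : W ⟶ Z), z₁ ≫ p = z₂ ≫ p →
      F.obj.map z₁.op x = F.obj.map z₂.op x) :
    ∃! y : F.obj.obj (op T), F.obj.map p.op y = x := by
  have h := ((isSheaf_iff_isSheaf_of_type _ _).1 F.property) _ (singleton_mem_J p hp)
  rw [← Presieve.isSheafFor_iff_generate, Presieve.isSheafFor_singleton] at h
  exact h x hx

theorem map_injective_of_singleton (F : QuotSh.Sh K S) {T Z : Over S} (p : Z ⟶ T)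
    (hp : Presieve.singleton p.left ∈ K T.left) : Function.Injective (F.obj.map p.op) := by
  have h := ((isSheaf_iff_isSheaf_of_type _ _).1 F.property) _ (singleton_mem_J p hp)
  rw [← Presieve.isSheafFor_iff_generate] at h
  exact Presieve.isSeparatedFor_singleton.1 h.isSeparatedFor

theorem existsUnique_of_ofArrows (F : QuotSh.Sh K S) {ι : Type*} {T : Over S} {Z : ι → Over S}
    (p : ∀ i, Z i ⟶ T)
    (hp : Presieve.ofArrows (fun i => (Z i).left) (fun i => (p i).left) ∈ K T.left)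
    (x : ∀ i, F.obj.obj (op (Z i)))
    (hx : ∀ (i j : ι) (W : Over S) (z₁ : W ⟶ Z i) (z₂ : W ⟶ Z j), z₁ ≫ p i = z₂ ≫ p j →
      F.obj.map z₁.op (x i) = F.obj.map z₂.op (x j)) :
    ∃! y : F.obj.obj (op T), ∀ i, F.obj.map (p i).op y = x i := by
  have h := ((isSheaf_iff_isSheaf_of_type _ _).1 F.property) _ (ofArrows_mem_J p hp)
  rw [← Presieve.isSheafFor_iff_generate, Presieve.isSheafFor_arrows_iff] at h
  exact h x hx

theorem ext_of_ofArrows (F : QuotSh.Sh K S) {ι : Type*} {T : Over S} {Z : ι → Over S}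
    (p : ∀ i, Z i ⟶ T)
    (hp : Presieve.ofArrows (fun i => (Z i).left) (fun i => (p i).left) ∈ K T.left)
    {x y : F.obj.obj (op T)} (h : ∀ i, F.obj.map (p i).op x = F.obj.map (p i).op y) : x = y := by
  obtain ⟨z, -, hz⟩ := existsUnique_of_ofArrows F p hp (fun i => F.obj.map (p i).op y)
    (fun i j W z₁ z₂ hz => by
      rw [← Functor.map_comp_apply, ← Functor.map_comp_apply, ← op_comp, ← op_comp, hz])
  rw [hz x h, hz y fun _ => rfl]

/-- A morphism whose underlying morphism of schemes is a covering of `K` is locally surjective. -/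
theorem locSurj_of_singleton {U M : Over S} (q : U ⟶ M)
    (hq : Presieve.singleton q.left ∈ K M.left) : LocSurj K q := by
  refine ⟨_, singleton_mem_J q hq, ?_⟩
  rintro T f ⟨W, g, h, ⟨⟩, rfl⟩
  exact ⟨g, rfl⟩

theorem locSurj_iff_exists_ofArrows [K.IsStableUnderComposition] [K.IsStableUnderBaseChange] [K.HasPullbacks]
    [K.HasIsos] [Precoverage.Small.{u} K] {U M : Over S} (q : U ⟶ M) :
    LocSurj K q ↔ ∃ (ι : Type u) (Z : ι → Over S) (p : ∀ i, Z i ⟶ M) (x : ∀ i, Z i ⟶ U),
      Presieve.ofArrows (fun i => (Z i).left) (fun i => (p i).left) ∈ K M.left ∧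
        ∀ i, x i ≫ q = p i := by
  constructor
  · rintro ⟨C, hC, h⟩
    obtain ⟨ι, Z, p, hp, hpC⟩ := exists_ofArrows_of_mem_J hC
    choose x hx using fun i => h (p i) (hpC i)
    exact ⟨ι, Z, p, x, hp, hx⟩
  · rintro ⟨ι, Z, p, x, hp, hx⟩
    refine ⟨_, ofArrows_mem_J p hp, ?_⟩
    rintro T f ⟨W, g, h, ⟨i⟩, rfl⟩
    exact ⟨g ≫ x i, by rw [Category.assoc, hx i]⟩

/-- **Descent of a point of `U` to a section of `U/R`.** -/
theorem existsUnique_desc {R U : Over S} (s t : R ⟶ U) {T Z : Over S} (p : Z ⟶ T)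
    (hp : Presieve.singleton p.left ∈ K T.left) (x : Z ⟶ U)
    (hx : ∀ (W : Over S) (z₁ z₂ : W ⟶ Z), z₁ ≫ p = z₂ ≫ p → Rel s t (z₁ ≫ x) (z₂ ≫ x)) :
    ∃! σ : QuotSh.rep K T ⟶ QuotSh.quot K s t,
      QuotSh.repMap K x ≫ QuotSh.quotπ K s t = QuotSh.repMap K p ≫ σ := by
  have key : ∀ σ : QuotSh.rep K T ⟶ QuotSh.quot K s t,
      QuotSh.repMap K x ≫ QuotSh.quotπ K s t = QuotSh.repMap K p ≫ σ ↔
        (QuotSh.quot K s t).obj.map p.op (homEquiv K σ) = quotPt K s t x := by
    intro σ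
    rw [← (homEquiv K).injective.eq_iff, homEquiv_repMap_comp, homEquiv_repMap_comp,
      homEquiv_apply K (QuotSh.quotπ K s t)]
    change (QuotSh.quot K s t).obj.map x.op (quotPt K s t (𝟙 U)) = _ ↔ _
    rw [← quotPt_eq_map]
    exact eq_comm
  obtain ⟨y, hy, hy'⟩ := existsUnique_of_singleton (QuotSh.quot K s t) p hp (quotPt K s t x)
    (fun z₁ z₂ hz => by
      rw [map_quotPt, map_quotPt]
      exact quotPt_eq_of_rel K s t (hx _ z₁ z₂ hz))
  refine ⟨(homEquiv K).symm y, (key _).2 ?_, fun σ hσ => ?_⟩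
  · rw [Equiv.apply_symm_apply]; exact hy
  · rw [Equiv.eq_symm_apply]
    exact hy' _ ((key σ).1 hσ)

end K185.Cover
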