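import Groth.Prelude.Def_QuotSh
import Mathlib.CategoryTheory.Sites.SubcanonicalOver
import Mathlib.AlgebraicGeometry.Sites.Etale
import Mathlib.AlgebraicGeometry.Sites.Fpqc

/-!
# Scoped instances for the fppf, étale and fpqc precoverages

`open scoped K185` to get: `HasIsos`, `IsStableUnderComposition`, `IsStableUnderBaseChange`, `HasPullbacks`,
`Small` for `Scheme.fppfPrecoverage`, `Scheme.etalePrecoverage`, `Scheme.fpqcPrecoverage`,
and `(QuotSh.J K S).Subcanonical` for the three.
-/

set_option autoImplicit false
set_option backward.isDefEq.respectTransparency.types false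
universe u
open CategoryTheory AlgebraicGeometry

namespace K185

scoped instance fppf_small : Precoverage.Small.{u} Scheme.fppfPrecoverage.{u} :=
  inferInstanceAs (Precoverage.Small.{u} (Scheme.precoverage (@Flat ⊓ @LocallyOfFinitePresentation)))

theorem flat_lfp_id : (@Flat ⊓ @LocallyOfFinitePresentation :
    MorphismProperty Scheme.{u}).ContainsIdentities :=
  ⟨fun _ => ⟨inferInstance, inferInstance⟩⟩

scoped instance fppf_hasIsos : Precoverage.HasIsos Scheme.fppfPrecoverage.{u} := by
  have := flat_lfp_id.{u}
  have : (@Flat ⊓ @LocallyOfFinitePresentation : MorphismProperty Scheme.{u}).RespectsIso :=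
    inferInstance
  exact inferInstanceAs
    (Precoverage.HasIsos (Scheme.precoverage (@Flat ⊓ @LocallyOfFinitePresentation)))

scoped instance etale_small : Precoverage.Small.{u} Scheme.etalePrecoverage.{u} :=
  inferInstanceAs (Precoverage.Small.{u} (Scheme.precoverage @Etale))

scoped instance etale_hasIsos : Precoverage.HasIsos Scheme.etalePrecoverage.{u} :=
  inferInstanceAs (Precoverage.HasIsos (Scheme.precoverage @Etale))

scoped instance etale_comp : Precoverage.IsStableUnderComposition Scheme.etalePrecoverage.{u} :=
  inferInstanceAs (Precoverage.IsStableUnderComposition (Scheme.precoverage @Etale))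

scoped instance etale_bc : Precoverage.IsStableUnderBaseChange Scheme.etalePrecoverage.{u} :=
  inferInstanceAs (Precoverage.IsStableUnderBaseChange (Scheme.precoverage @Etale))

scoped instance etale_hasPullbacks : Precoverage.HasPullbacks Scheme.etalePrecoverage.{u} :=
  inferInstanceAs (Precoverage.HasPullbacks (Scheme.precoverage @Etale))

scoped instance fpqc_small : Precoverage.Small.{u} Scheme.fpqcPrecoverage.{u} :=
  inferInstanceAs (Precoverage.Small.{u} (Scheme.propQCPrecoverage @Flat))

theorem etalePrecoverage_le_fppfPrecoverage :
    Scheme.etalePrecoverage.{u} ≤ Scheme.fppfPrecoverage.{u} :=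
  Scheme.precoverage_mono fun _ _ _ _ => ⟨inferInstance, inferInstance⟩

theorem etaleTopology_le_fppfTopology : Scheme.etalePrecoverage.{u}.toGrothendieck ≤
    Scheme.fppfTopology.{u} :=
  Precoverage.toGrothendieck_mono etalePrecoverage_le_fppfPrecoverage

scoped instance etale_subcanonical : (Scheme.etalePrecoverage.{u}.toGrothendieck).Subcanonical :=
  GrothendieckTopology.Subcanonical.of_le etaleTopology_le_fppfTopology

section

variable (S : Scheme.{u})

scoped instance zariski_J : (QuotSh.J Scheme.zariskiPrecoverage S).Subcanonical :=
  inferInstanceAs ((Scheme.zariskiTopology.over S).Subcanonical)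

scoped instance etale_J : (QuotSh.J Scheme.etalePrecoverage S).Subcanonical :=
  inferInstanceAs ((Scheme.etalePrecoverage.{u}.toGrothendieck.over S).Subcanonical)

scoped instance fppf_J : (QuotSh.J Scheme.fppfPrecoverage S).Subcanonical :=
  inferInstanceAs ((Scheme.fppfTopology.over S).Subcanonical)

scoped instance fpqc_J : (QuotSh.J Scheme.fpqcPrecoverage S).Subcanonical :=
  inferInstanceAs ((Scheme.fpqcTopology.over S).Subcanonical)

end

end K185
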