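import Groth.Agent.GrpQ.K185.FamSub
import Groth.Prelude.Def_DescFam

/-!
# Effectivity of a descent datum of monomorphisms

A descent datum for schemes relative to a family all of whose members are monomorphisms is effective as soon as the
predicate it defines is "factors through a monomorphism `U ⟶ S`".
-/

set_option autoImplicit false
set_option backward.isDefEq.respectTransparency false
set_option backward.isDefEq.respectTransparency.types false
universe u
open CategoryTheory CategoryTheory.Limits AlgebraicGeometry Opposite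

namespace K185.SubDesc

variable {S : Scheme.{u}} {ι : Type u} {X : ι → Scheme.{u}} {f : ∀ i, X i ⟶ S}

theorem comp_of_ddFam (D : Desc.SchDDFam f) : Comp f (fun i => (D.obj i).hom) := by
  rintro i j T x y h ⟨v, hv⟩
  exact ⟨(D.φ x y h ⟨v, hv⟩).1, (D.φ x y h ⟨v, hv⟩).2⟩

theorem isEffective_of_mono (D : Desc.SchDDFam f) [∀ i, Mono (D.obj i).hom] {Z : Scheme.{u}} (z : Z ⟶ S)
    [Mono z] (h : ∀ ⦃T : Scheme.{u}⦄ (x : T ⟶ S), famQ f (fun i => (D.obj i).hom) x ↔ ∃ v : T ⟶ Z, v ≫ z = x) :
    D.IsEffective := by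
  have h' : ∀ (i : ι) ⦃T : Scheme.{u}⦄ (x : T ⟶ X i),
      (∃ v : T ⟶ (D.obj i).left, v ≫ (D.obj i).hom = x) ↔ ∃ u : T ⟶ Z, u ≫ z = x ≫ f i := by
    intro i T x
    rw [← h, famQ_iff (comp_of_ddFam D)]
  let U : Over S := Over.mk z
  have hU : Mono U.hom := inferInstanceAs (Mono z)
  choose a ha using fun i => (h' i (pullback.fst (f i) U.hom)).2 ⟨pullback.snd _ _, pullback.condition.symm⟩
  choose b hb using fun i => (h' i (D.obj i).hom).1 ⟨𝟙 _, Category.id_comp _⟩
  have hm : ∀ i, Mono ((Desc.canonicalDDFam f U).obj i).hom := fun i =>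
    inferInstanceAs (Mono (pullback.fst (f i) U.hom))
  let hom : Desc.canonicalDDFam f U ⟶ D :=
    ⟨fun i => Over.homMk (a i) (ha i), fun T i j x₀ x₁ h v w hw => by
      rw [← cancel_mono (D.obj j).hom, Category.assoc]
      refine (D.φ x₀ x₁ h w).2.trans ?_
      have h1 := ((Desc.canonicalDDFam f U).φ x₀ x₁ h v).2
      refine h1.symm.trans ?_
      congr 1
      exact (ha j).symm⟩
  let inv : D ⟶ Desc.canonicalDDFam f U :=
    ⟨fun i => Over.homMk (pullback.lift (D.obj i).hom (b i) (hb i).symm) (pullback.lift_fst _ _ _),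
      fun T i j x₀ x₁ h v w hw => by
        rw [← cancel_mono ((Desc.canonicalDDFam f U).obj j).hom, Category.assoc]
        refine ((Desc.canonicalDDFam f U).φ x₀ x₁ h w).2.trans ?_
        refine (D.φ x₀ x₁ h v).2.symm.trans ?_
        congr 1
        exact (pullback.lift_fst _ _ _).symm⟩
  refine ⟨U, ⟨⟨hom, inv, ?_, ?_⟩⟩⟩
  · ext i : 3
    have := hm i
    rw [← cancel_mono ((Desc.canonicalDDFam f U).obj i).hom]
    exact (Over.w ((hom ≫ inv).hom i)).trans (Over.w (𝟙 ((Desc.canonicalDDFam f U).obj i))).symm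
  · ext i : 3
    rw [← cancel_mono (D.obj i).hom]
    exact (Over.w ((inv ≫ hom).hom i)).trans (Over.w (𝟙 (D.obj i))).symm

end K185.SubDesc
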