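import Groth.Agent.Sga3.H828.FpqcRep
import Mathlib.AlgebraicGeometry.Sites.Fpqc

/-!
# Descent of representability along an fpqc covering family

`exists_rep_of_fpqcFamily`: family version (`Presieve.ofArrows X f ∈ Scheme.fpqcPrecoverage S`) of
`Sga3.H828.FpqcRep.exists_rep_of_fpqcCover`.
-/

set_option autoImplicit false
set_option backward.isDefEq.respectTransparency false
set_option backward.isDefEq.respectTransparency.types false
universe u
open CategoryTheory CategoryTheory.Limits AlgebraicGeometry Opposite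

namespace K185.FamRep

open Groth.Agent.Desc.SecFunctor Groth.Agent.Desc.SecPresheaf Groth.Agent.Desc.SecDescent
  Groth.Agent.Picfga.OverRep Groth.Agent.Desc.ZarGlue Groth.Agent.Ega2.QuasiAffine
  Groth.Agent.Sga3.H828

variable {S : Scheme.{u}}

section family

variable {ι : Type u} {X : ι → Scheme.{u}} (f : ∀ i, X i ⟶ S)
  (hf : Presieve.ofArrows X f ∈ Scheme.fpqcPrecoverage S)

include hf

theorem flat_of_mem (i : ι) : Flat (f i) := by
  have h1 : Presieve.ofArrows X f ∈ Scheme.precoverage @Flat S := hf.2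
  rw [Scheme.ofArrows_mem_precoverage_iff] at h1
  exact h1.2 i

theorem surj_of_mem (s : S) : ∃ i, s ∈ Set.range (f i) := by
  have h1 : Presieve.ofArrows X f ∈ Scheme.precoverage @Flat S := hf.2
  rw [Scheme.ofArrows_mem_precoverage_iff] at h1
  exact h1.1 s

theorem flat_sigma : Flat (Sigma.desc f) := by
  have := flat_of_mem f hf
  exact inferInstanceAs (Flat (Sigma.desc fun i => f i))

theorem surjective_sigma : Surjective (Sigma.desc f) := by
  apply Surjective.sigmaDesc_of_union_range_eq_univ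
  rw [Set.eq_univ_iff_forall]
  intro s
  exact Set.mem_iUnion.mpr (surj_of_mem f hf s)

theorem qc_sigma (V : S.Opens) (hV : IsAffineOpen V) :
    ∃ W : (∐ X).Opens, IsCompact (W : Set ↥(∐ X)) ∧
      (Sigma.desc f).base '' (W : Set ↥(∐ X)) = (V : Set S) := by
  let E : PreZeroHypercover.{u} S := ⟨ι, X, f⟩
  have hE : E.presieve₀ = Presieve.ofArrows X f := rfl
  have hqc : QuasiCompactCover E := by
    rw [← Scheme.presieve₀_mem_qcPrecoverage_iff]
    exact hf.1
  obtain ⟨n, a, O, hO, hU⟩ := QuasiCompactCover.exists_isAffineOpen_of_isCompact E hV.isCompact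
  refine ⟨⨆ k : Fin n, (Sigma.ι X (a k)) ''ᵁ (O k), ?_, ?_⟩
  · rw [TopologicalSpace.Opens.coe_iSup]
    refine isCompact_iUnion fun k => ?_
    exact ((hO k).isCompact.image (Sigma.ι X (a k)).continuous)
  · rw [TopologicalSpace.Opens.coe_iSup, Set.image_iUnion, ← hU]
    refine Set.iUnion_congr fun k => ?_
    change (Sigma.desc f).base '' ((Sigma.ι X (a k)) '' (O k : Set (X (a k)))) = f (a k) '' (O k)
    rw [Set.image_image]
    refine Set.image_congr fun x _ => ?_
    change (Sigma.desc f) ((Sigma.ι X (a k)) x) = _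
    rw [← Scheme.Hom.comp_apply, Sigma.ι_desc]

/-- **Descent of representability along an fpqc covering family.** -/
theorem exists_rep_of_fpqcFamily (F : (Over S)ᵒᵖ ⥤ Type u) (hZ : IsZarSheaf F)
    (hF : ∀ {T' T : Over S} (g : T' ⟶ T), Flat g.left → Surjective g.left → QuasiCompact g.left →
      IsDesc F g)
    (P : MorphismProperty Scheme.{u}) [IsZariskiLocalAtTarget P] [P.IsStableUnderBaseChange]
    [P.DescendsAlong (@Surjective ⊓ @Flat ⊓ @QuasiCompact)]
    (hP : ∀ {X Y : Scheme.{u}} (g : X ⟶ Y), P g → Mor2.IsQuasiAffine g)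
    (H : ∀ i, ∃ E : Over (X i), P E.hom ∧ Nonempty ((restr (f i) F).RepresentableBy E)) :
    ∃ E : Over S, P E.hom ∧ Nonempty (F.RepresentableBy E) := by
  choose E hE hr using H
  have h1 := flat_sigma f hf
  have h2 := surjective_sigma f hf
  refine FpqcRep.exists_rep_of_fpqcCover F hZ hF P (Sigma.desc f) (qc_sigma f hf) fun x => ?_
  obtain ⟨⟨j, y⟩, rfl⟩ := (sigmaMk X).surjective x
  rw [sigmaMk_mk]
  let U : (∐ X).Opens := (Sigma.ι X j).opensRange
  let r : U.toScheme ⟶ X j := (Sigma.ι X j).isoOpensRange.inv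
  have hr' : r ≫ Sigma.ι X j = U.ι := (Sigma.ι X j).isoOpensRange_inv_comp
  have hP' : P ((Over.pullback r).obj (E j)).hom := MorphismProperty.pullback_snd (P := P) _ _ (hE j)
  refine ⟨U, ⟨y, rfl⟩, (Over.pullback r).obj (E j), hP', hP _ hP', ⟨?_⟩⟩
  refine (pullRep r (hr j).some).ofIso (restrCompIso ?_ F)
  rw [← hr', Category.assoc, Sigma.ι_desc]

end family

end K185.FamRep
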