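import Groth.Agent.GrpQ.K185.SubDesc

/-!
# The fpqc local predicate of a compatible family of subobjects

* `Comp f z` : the monomorphisms `z i : Z i ⟶ X i` are compatible over `f i : X i ⟶ S`.
* `famQ f z` : the predicate on morphisms `T ⟶ S` defined by the family.
* `famQ_iff` : over `X i` the predicate is "factors through `z i`".
* `isFpqcLocal_famQ` : it is local for the fpqc topology.
-/

set_option autoImplicit false
universe u
open CategoryTheory CategoryTheory.Limits AlgebraicGeometry Opposite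

namespace K185.SubDesc

variable {S : Scheme.{u}} {ι : Type u} {X : ι → Scheme.{u}} (f : ∀ i, X i ⟶ S) {Z : ι → Scheme.{u}}
  (z : ∀ i, Z i ⟶ X i)

/-- The subobjects `z i` of the `X i` are compatible over `S`. -/
def Comp : Prop :=
  ∀ ⦃i j : ι⦄ ⦃T : Scheme.{u}⦄ (x : T ⟶ X i) (y : T ⟶ X j), x ≫ f i = y ≫ f j →
    (∃ v : T ⟶ Z i, v ≫ z i = x) → ∃ w : T ⟶ Z j, w ≫ z j = y

/-- The predicate on morphisms to `S` defined by a family of subobjects. -/
def famQ ⦃T : Scheme.{u}⦄ (h : T ⟶ S) : Prop :=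
  ∀ ⦃i : ι⦄ ⦃T' : Scheme.{u}⦄ (g : T' ⟶ T) (x : T' ⟶ X i), g ≫ h = x ≫ f i → ∃ v : T' ⟶ Z i, v ≫ z i = x

variable {f z}

theorem famQ_iff (hc : Comp f z) {i : ι} {T : Scheme.{u}} (x : T ⟶ X i) :
    famQ f z (x ≫ f i) ↔ ∃ v : T ⟶ Z i, v ≫ z i = x := by
  refine ⟨fun h => h (𝟙 _) x (Category.id_comp _), fun h j T' g y hg => ?_⟩
  obtain ⟨v, hv⟩ := h
  exact hc (g ≫ x) y (by rw [Category.assoc, hg]) ⟨g ≫ v, by rw [Category.assoc, hv]⟩

variable (f z)

theorem isFpqcLocal_famQ [∀ i, Mono (z i)] : IsFpqcLocal (famQ f z) where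
  comp T T' g h hh i T'' g' x hx := hh (g' ≫ g) x (by rw [Category.assoc, hx])
  loc T h R hR hh i T' g' x hx := by
    refine exists_fac_of_local (z i) x _ (Scheme.fpqcPrecoverage.pullbackArrows_mem g' hR) ?_
    rintro _ _ ⟨_, p, hp⟩
    refine hh p hp (pullback.fst p g') (pullback.snd p g' ≫ x) ?_
    rw [← Category.assoc, pullback.condition, Category.assoc, hx, Category.assoc]

end K185.SubDesc
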