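import Groth.Agent.GrpQ.K185.FibreSlice
import Groth.Agent.CalgB.ProjImm2
import Groth.Agent.CalgB.ProjField
import Groth.Prelude.Def_RelProj

/-!
# A closed subscheme of `X` cutting the fibre of `v : Y ⟶ Z` in a finite set
-/

set_option autoImplicit false
set_option backward.isDefEq.respectTransparency.types false
universe u
open CategoryTheory CategoryTheory.Limits AlgebraicGeometry TopologicalSpace Opposite
open Groth.Agent.GrpQ.H769.IsolFib Groth.Agent.Sga3C.FlatPt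

namespace K185.FibreSlice

theorem exists_finite {T X Y Z : Scheme.{u}} {pX : X ⟶ T} {pZ : Z ⟶ T} (u : Y ⟶ X) (v : Y ⟶ Z)
    [IsNoetherian X] [IsNoetherian Y]
    [LocallyOfFiniteType pX] [LocallyOfFiniteType pZ] [LocallyOfFiniteType v] [QuasiCompact v]
    (h : u ≫ pX = v ≫ pZ) {L : X.Modules} (hL : CohB1.IsAmple L) (z : Z) (hz : ClosedInFib pZ z)
    (hzv : z ∈ Set.range v) (hflat : ∀ y : Y, v y = z → IsFlatAt v y) :
    ∃ (F : Scheme.{u}) (ζ : F ⟶ X), IsClosedImmersion ζ ∧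
      (∀ y : ↥(pullback ζ u), (pullback.snd ζ u ≫ v) y = z → IsFlatAt (pullback.snd ζ u ≫ v) y) ∧
      ((pullback.snd ζ u ≫ v) ⁻¹' {z}).Nonempty ∧
      ((pullback.snd ζ u ≫ u) '' ((pullback.snd ζ u ≫ v) ⁻¹' {z})).Finite := by
  have key : ∀ (C : Closeds X) (F : Scheme.{u}) (ζ : F ⟶ X), IsClosedImmersion ζ →
      Set.range ζ = C →
      (∀ y : ↥(pullback ζ u), (pullback.snd ζ u ≫ v) y = z → IsFlatAt (pullback.snd ζ u ≫ v) y) →
      ((pullback.snd ζ u ≫ v) ⁻¹' {z}).Nonempty →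
      ∃ (F : Scheme.{u}) (ζ : F ⟶ X), IsClosedImmersion ζ ∧
        (∀ y : ↥(pullback ζ u), (pullback.snd ζ u ≫ v) y = z → IsFlatAt (pullback.snd ζ u ≫ v) y) ∧
        ((pullback.snd ζ u ≫ v) ⁻¹' {z}).Nonempty ∧
        ((pullback.snd ζ u ≫ u) '' ((pullback.snd ζ u ≫ v) ⁻¹' {z})).Finite := by
    intro C
    induction C using WellFoundedLT.induction with
    | ind C ih =>
      intro F ζ hζ hC hflat hne
      by_cases hfin : ((pullback.snd ζ u ≫ u) '' ((pullback.snd ζ u ≫ v) ⁻¹' {z})).Finite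
      · exact ⟨F, ζ, hζ, hflat, hne, hfin⟩
      · obtain ⟨F', ζ', hζ', hflat', hne', hlt⟩ := exists_step u v h hL z hz ζ hflat hfin
        refine ih ⟨Set.range ζ', ζ'.isClosedEmbedding.isClosed_range⟩ ?_ F' ζ' hζ' rfl hflat' hne'
        rw [hC] at hlt
        exact hlt
  refine key ⊤ X (𝟙 _) inferInstance (by simp) ?_ ?_
  · intro y hy
    have h1 := hflat (pullback.snd (𝟙 X) u y) (by rw [← Scheme.Hom.comp_apply]; exact hy)
    exact IsFlatAt.comp (isFlatAt_of_flat _ y) h1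
  · obtain ⟨y, rfl⟩ := hzv
    obtain ⟨y', rfl⟩ := (pullback.snd (𝟙 X) u).surjective y
    exact ⟨y', by simp⟩

theorem main {T X Y Z : Scheme.{u}} [IsAffine T] [IsNoetherian T]
    (pX : X ⟶ T) (pY : Y ⟶ T) (pZ : Z ⟶ T)
    [LocallyOfFiniteType pY] [QuasiCompact pY] [LocallyOfFiniteType pZ] [QuasiCompact pZ]
    (hX : RelProj.IsQuasiProjective pX)
    (u : Y ⟶ X) (v : Y ⟶ Z) (hu : u ≫ pX = pY) (hv : v ≫ pZ = pY)
    (z : Z) (hz : z ∈ Set.range v.base)
    (hzc : ∀ z' : Z, z' ∈ closure ({z} : Set Z) → pZ.base z' = pZ.base z → z' = z)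
    (hflat : ∀ y : Y, v.base y = z → (v.stalkMap y).hom.Flat) :
    ∃ (F : Scheme.{u}) (i : F ⟶ X), IsClosedImmersion i ∧
      (u.base '' ((u.base ⁻¹' Set.range i.base) ∩ v.base ⁻¹' {z})).Finite ∧
      (u.base '' ((u.base ⁻¹' Set.range i.base) ∩ v.base ⁻¹' {z})).Nonempty ∧
      ∀ y' : ↥(pullback i u), v.base ((pullback.snd i u).base y') = z →
        ((pullback.snd i u ≫ v).stalkMap y').hom.Flat := by
  obtain ⟨hX1, hX2, hX3⟩ := hX
  obtain ⟨L, hL⟩ := (Groth.Agent.CalgB.ProjImm.exists_isAmple_iff_exists_isRelAmple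
    (Groth.Agent.CalgB.ProjField.exists_isAmple_of_isAffine T) pX).2 hX3
  have hXN : IsLocallyNoetherian X := LocallyOfFiniteType.isLocallyNoetherian pX
  have hXc : CompactSpace X := QuasiCompact.compactSpace_of_compactSpace pX
  have hXN' : IsNoetherian X := { }
  have hYN : IsLocallyNoetherian Y := LocallyOfFiniteType.isLocallyNoetherian pY
  have hYc : CompactSpace Y := QuasiCompact.compactSpace_of_compactSpace pY
  have hYN' : IsNoetherian Y := { }
  have hZN : IsLocallyNoetherian Z := LocallyOfFiniteType.isLocallyNoetherian pZ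
  have hvl : LocallyOfFiniteType v := by
    have : LocallyOfFiniteType (v ≫ pZ) := by rw [hv]; infer_instance
    exact locallyOfFiniteType_of_comp v pZ
  have hvq : QuasiCompact v := inferInstance
  obtain ⟨F, ζ, hζ, h1, h2, h3⟩ := exists_finite (pX := pX) (pZ := pZ) u v (by rw [hu, hv]) hL z
    (fun z' h4 h5 => hzc z' (specializes_iff_mem_closure.1 h4) h5) hz
    (fun y hy => (isFlatAt_iff_stalkMap v y).2 (hflat y hy))
  have heq : u.base '' ((u.base ⁻¹' Set.range ζ.base) ∩ v.base ⁻¹' {z}) =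
      (pullback.snd ζ u ≫ u) '' ((pullback.snd ζ u ≫ v) ⁻¹' {z}) := by
    apply subset_antisymm
    · rintro _ ⟨y, ⟨⟨x, hx⟩, hy⟩, rfl⟩
      obtain ⟨w, hw1, hw2⟩ := Scheme.Pullback.exists_preimage_pullback (f := ζ) (g := u) x y hx
      refine ⟨w, ?_, ?_⟩
      · change (pullback.snd ζ u ≫ v) w = z
        rw [Scheme.Hom.comp_apply, hw2]; exact hy
      · rw [Scheme.Hom.comp_apply, hw2]
    · rintro _ ⟨w, hw, rfl⟩
      refine ⟨pullback.snd ζ u w, ⟨⟨pullback.fst ζ u w, ?_⟩, ?_⟩, (Scheme.Hom.comp_apply _ _ _).symm⟩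
      · rw [← Scheme.Hom.comp_apply, pullback.condition, Scheme.Hom.comp_apply]
      · rw [Set.mem_preimage, ← Scheme.Hom.comp_apply]; exact hw
  refine ⟨F, ζ, hζ, by rw [heq]; exact h3, by rw [heq]; exact h2.image _, fun y' hy' => ?_⟩
  exact (isFlatAt_iff_stalkMap _ y').1 (h1 y' (by rw [Scheme.Hom.comp_apply]; exact hy'))

end K185.FibreSlice
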