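import Groth.Agent.GrpQ.H768.Step
import Groth.Agent.GrpQ.H769.IsolFib

/-!
# Slicing by closed subschemes of `X` a flat morphism `Y ⟶ Z` along a fibre

`exists_closed_pt` : `f : V ⟶ Z`, `a : V ⟶ X` over `T`; if the image of `f⁻¹(z)` in `X` is infinite and `z` is closed
in its fibre over `T`, it contains points closed in their fibre over `T` outside every finite set.
-/

set_option autoImplicit false
set_option backward.isDefEq.respectTransparency.types false
universe u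
open CategoryTheory CategoryTheory.Limits AlgebraicGeometry TopologicalSpace Opposite
open Groth.Agent.GrpQ.H769.IsolFib
open Groth.Agent.Flat2D.PbStalk Groth.Agent.Sga3C.FlatPt
open Groth.Agent.GrpQ.H768.AssPts Groth.Agent.GrpQ.H768.Hyper

namespace K185.FibreSlice

variable {T X Z V : Scheme.{u}} {pX : X ⟶ T} {pZ : Z ⟶ T} {f : V ⟶ Z} {a : V ⟶ X}

/-- The induced map on fibres. -/
noncomputable def fibMap {pV : V ⟶ T} (h : a ≫ pX = pV) (t : T) : pV.fiber t ⟶ pX.fiber t :=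
  pullback.lift (pV.fiberι t ≫ a) (pV.fiberToSpecResidueField t) (by
    rw [Category.assoc, h]; exact pV.fiber_fac t)

theorem fibMap_fiberι {pV : V ⟶ T} (h : a ≫ pX = pV) (t : T) : fibMap h t ≫ pX.fiberι t = pV.fiberι t ≫ a :=
  pullback.lift_fst _ _ _

theorem fibMap_comp {pV : V ⟶ T} (h : a ≫ pX = pV) (t : T) :
    fibMap h t ≫ pX.fiberToSpecResidueField t = pV.fiberToSpecResidueField t :=
  pullback.lift_snd _ _ _

theorem locallyOfFiniteType_fibMap {pV : V ⟶ T} (h : a ≫ pX = pV) (t : T) [LocallyOfFiniteType pV] :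
    LocallyOfFiniteType (fibMap h t) := by
  have h1 : LocallyOfFiniteType (pV.fiberToSpecResidueField t) :=
    MorphismProperty.pullback_snd _ _ ‹_›
  rw [← fibMap_comp h t] at h1
  exact locallyOfFiniteType_of_comp _ (pX.fiberToSpecResidueField t)

theorem exists_closed_pt (h : a ≫ pX = f ≫ pZ) [LocallyOfFiniteType pX] [LocallyOfFiniteType pZ]
    [LocallyOfFiniteType f] (z : Z) (hz : ClosedInFib pZ z) (A : Set X) (hA : A.Finite)
    (hinf : (a '' (f ⁻¹' {z})).Infinite) : ∃ v : V, f v = z ∧ a v ∉ A ∧ ClosedInFib pX (a v) := by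
  obtain ⟨t, ht⟩ : ∃ t, t = pZ z := ⟨_, rfl⟩
  obtain ⟨pV, hpV⟩ : ∃ pV, pV = f ≫ pZ := ⟨_, rfl⟩
  rw [← hpV] at h
  have hlft : LocallyOfFiniteType pV := by rw [hpV]; infer_instance
  have i1 := locallyOfFiniteType_fibMap h t
  -- the closed subset of the fibre over `z`
  have hzcl : ∃ z' : pZ.fiber t, pZ.fiberι t z' = z ∧ IsClosed ({z'} : Set (pZ.fiber t)) := by
    subst ht
    exact ⟨pZ.asFiber z, pZ.fiberι_asFiber z, isClosed_asFiber pZ hz⟩
  obtain ⟨z', hz', hzc⟩ := hzcl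
  obtain ⟨C, hC⟩ : ∃ C : Set (pV.fiber t), C = fibMap hpV.symm t ⁻¹' {z'} := ⟨_, rfl⟩
  have hCc : IsClosed C := by rw [hC]; exact hzc.preimage (fibMap hpV.symm t).continuous
  have hmem : ∀ w : pV.fiber t, w ∈ C ↔ f (pV.fiberι t w) = z := by
    intro w
    rw [hC, ← Scheme.Hom.comp_apply, ← fibMap_fiberι hpV.symm t, Scheme.Hom.comp_apply, ← hz']
    exact (pZ.fiberι t).isEmbedding.injective.eq_iff.symm
  by_contra hcon
  push Not at hcon
  -- the finite set of closed points of the fibre of `X`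
  obtain ⟨B, hB⟩ : ∃ B : Set (pX.fiber t), B = closedPoints (pX.fiber t) ∩ pX.fiberι t ⁻¹' A := ⟨_, rfl⟩
  have hBf : B.Finite := by
    rw [hB]
    exact (hA.preimage (pX.fiberι t).isEmbedding.injective.injOn).inter_of_right _
  have hcl : IsClosed (fibMap h t ⁻¹' B) := by
    refine IsClosed.preimage (fibMap h t).continuous ?_
    rw [← Set.biUnion_of_singleton B]
    refine hBf.isClosed_biUnion fun b hb => ?_
    rw [hB] at hb
    exact hb.1
  have hsub : C ⊆ fibMap h t ⁻¹' B := by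
    have h1 := JacobsonSpace.closure_inter_closedPoints_eq_closure hCc.isLocallyClosed
    rw [hCc.closure_eq] at h1
    rw [← h1]
    refine closure_minimal ?_ hcl
    rintro w ⟨hw1, hw2⟩
    have h2 : IsClosed ({fibMap h t w} : Set (pX.fiber t)) :=
      (fibMap h t).closePoints_subset_preimage_closedPoints hw2
    have h3 : pX.fiberι t (fibMap h t w) = a (pV.fiberι t w) := by
      rw [← Scheme.Hom.comp_apply, fibMap_fiberι, Scheme.Hom.comp_apply]
    have h4 := closedInFib_fiberι pX t _ h2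
    rw [h3] at h4
    have h5 : a (pV.fiberι t w) ∈ A := by
      by_contra h6
      exact hcon _ ((hmem w).1 hw1) h6 h4
    rw [hB]
    exact ⟨h2, by rw [Set.mem_preimage, h3]; exact h5⟩
  refine hinf (hA.subset ?_)
  rintro _ ⟨v, hv, rfl⟩
  have h6 : v ∈ Set.range (pV.fiberι t) := by
    rw [Scheme.Hom.range_fiberι, hpV]
    change (f ≫ pZ) v = t
    rw [Scheme.Hom.comp_apply, show f v = z from hv, ht]
  obtain ⟨w, rfl⟩ := h6
  have h7 := hsub ((hmem w).2 hv)
  rw [hB] at h7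
  have h3 : pX.fiberι t (fibMap h t w) = a (pV.fiberι t w) := by
    rw [← Scheme.Hom.comp_apply, fibMap_fiberι, Scheme.Hom.comp_apply]
  rw [← h3]
  exact h7.2

section square

variable {F D Y : Scheme.{u}} (ζ : F ⟶ X) (δ : D ⟶ X) (u : Y ⟶ X)

/-- `(F ×_X D) ×_X Y ⟶ F ×_X Y` -/
noncomputable def inc : pullback (pullback.fst ζ δ ≫ ζ) u ⟶ pullback ζ u :=
  pullback.lift (pullback.fst _ _ ≫ pullback.fst ζ δ) (pullback.snd _ _)
    ((Category.assoc _ _ _).trans (pullback.condition (f := pullback.fst ζ δ ≫ ζ) (g := u)))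

lemma inc_fst : inc ζ δ u ≫ pullback.fst ζ u = pullback.fst _ _ ≫ pullback.fst ζ δ := pullback.lift_fst _ _ _

lemma inc_snd : inc ζ δ u ≫ pullback.snd ζ u = pullback.snd _ _ := pullback.lift_snd _ _ _

lemma isPullback_inc : IsPullback (inc ζ δ u)
    (pullback.fst (pullback.fst ζ δ ≫ ζ) u ≫ pullback.snd ζ δ) (pullback.snd ζ u ≫ u) δ := by
  have h1 : IsPullback (inc ζ δ u) (pullback.fst (pullback.fst ζ δ ≫ ζ) u) (pullback.fst ζ u)
      (pullback.fst ζ δ) := by
    refine IsPullback.of_right (h₁₂ := pullback.snd ζ u) (h₂₂ := ζ) (v₁₃ := u) ?_ (inc_fst ζ δ u)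
      (IsPullback.of_hasPullback ζ u).flip
    rw [inc_snd]
    exact (IsPullback.of_hasPullback (pullback.fst ζ δ ≫ ζ) u).flip
  have h2 := h1.paste_vert (IsPullback.of_hasPullback ζ δ)
  rwa [pullback.condition (f := ζ) (g := u)] at h2

end square

/-- germs on the fibre -/
lemma stalkTo_germ (z : Z) (W : X.Opens) (c : Γ(X, W)) (w : f.fiber z) (v : V)
    (hw : f.fiberι z w = v) (hv : a v ∈ W) (hv' : w ∈ (f.fiberι z ≫ a) ⁻¹ᵁ W) :
    (stalkTo (f.fiberι z) w hw).hom ((a.stalkMap v).hom (X.presheaf.germ W _ hv c)) =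
      (f.fiber z).presheaf.germ _ w hv' ((f.fiberι z ≫ a).app W c) := by
  subst hw
  rw [stalkTo_rfl]
  have h1 := Scheme.Hom.germ_stalkMap_apply a W (f.fiberι z w) hv c
  have h2 := Scheme.Hom.germ_stalkMap_apply (f.fiberι z) (a ⁻¹ᵁ W) w hv (a.app W c)
  refine (congrArg _ h1).trans (h2.trans ?_)
  rw [Scheme.Hom.comp_app]
  rfl

theorem germ_mem_nonZeroDivisors' {F : Scheme.{u}} [IsLocallyNoetherian F] {A : F.Opens} (c : Γ(F, A))
    (hc : ∀ w ∈ assPts F, w ∈ A → w ∈ F.basicOpen c) (w : F) (hw : w ∈ A) :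
    F.presheaf.germ A w hw c ∈ nonZeroDivisors (F.presheaf.stalk w) := by
  obtain ⟨_, ⟨B, hB, rfl⟩, hwB, hBA⟩ :=
    F.isBasis_affineOpens.exists_subset_of_mem_open (show w ∈ (A : Set F) from hw) A.isOpen
  have hBA' : B ≤ A := hBA
  have h1 := germ_mem_nonZeroDivisors (A := B) hB (F.presheaf.map (homOfLE hBA').op c) (fun w' h1 h2 => by
    rw [Scheme.basicOpen_res]
    exact ⟨h2, hc w' h1 (hBA' h2)⟩) w hwB
  rwa [TopCat.Presheaf.germ_res_apply] at h1

/-- The slicing step. -/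
theorem exists_step {Y : Scheme.{u}} (u : Y ⟶ X) (v : Y ⟶ Z) [IsLocallyNoetherian X] [IsNoetherian Y]
    [LocallyOfFiniteType pX] [LocallyOfFiniteType pZ] [LocallyOfFiniteType v] [QuasiCompact v]
    (h : u ≫ pX = v ≫ pZ) {L : X.Modules} (hL : CohB1.IsAmple L) (z : Z) (hz : ClosedInFib pZ z)
    {F : Scheme.{u}} (ζ : F ⟶ X) [IsClosedImmersion ζ]
    (hflat : ∀ y : ↥(pullback ζ u), (pullback.snd ζ u ≫ v) y = z → IsFlatAt (pullback.snd ζ u ≫ v) y)
    (hinf : ((pullback.snd ζ u ≫ u) '' ((pullback.snd ζ u ≫ v) ⁻¹' {z})).Infinite) :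
    ∃ (F' : Scheme.{u}) (ζ' : F' ⟶ X), IsClosedImmersion ζ' ∧
      (∀ y : ↥(pullback ζ' u), (pullback.snd ζ' u ≫ v) y = z → IsFlatAt (pullback.snd ζ' u ≫ v) y) ∧
      ((pullback.snd ζ' u ≫ v) ⁻¹' {z}).Nonempty ∧ Set.range ζ' ⊂ Set.range ζ := by
  obtain ⟨f, hf⟩ : ∃ f, f = pullback.snd ζ u ≫ v := ⟨_, rfl⟩
  obtain ⟨a, ha⟩ : ∃ a, a = pullback.snd ζ u ≫ u := ⟨_, rfl⟩
  have hVN : IsLocallyNoetherian (pullback ζ u) :=
    LocallyOfFiniteType.isLocallyNoetherian (pullback.snd ζ u)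
  have hfl : LocallyOfFiniteType f := by rw [hf]; infer_instance
  have hfq : QuasiCompact f := by rw [hf]; infer_instance
  have hcomp : a ≫ pX = f ≫ pZ := by rw [ha, hf, Category.assoc, h, Category.assoc]
  rw [← hf, ← ha] at hinf
  have hft : LocallyOfFiniteType (f.fiberToSpecResidueField z) := MorphismProperty.pullback_snd _ _ hfl
  have hFN : IsLocallyNoetherian (f.fiber z) :=
    LocallyOfFiniteType.isLocallyNoetherian (f.fiberToSpecResidueField z)
  have hFN' : IsNoetherian (f.fiber z) := { }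
  -- points of the fibre
  have hfib : ∀ y : ↥(pullback ζ u), f y = z → ∃ w : f.fiber z, f.fiberι z w = y := by
    intro y hy
    have h1 : y ∈ Set.range (f.fiberι z) := by
      rw [Scheme.Hom.range_fiberι]; exact hy
    exact h1
  have hfib' : ∀ w : f.fiber z, f (f.fiberι z w) = z := fun w => apply_fiberι f z w
  have hne : Nonempty (f.fiber z) := by
    obtain ⟨_, ⟨y, hy, rfl⟩⟩ := hinf.nonempty
    obtain ⟨w, -⟩ := hfib y hy
    exact ⟨w⟩
  obtain ⟨A, hAdef⟩ : ∃ A : Set X, A = (f.fiberι z ≫ a) '' assPts (f.fiber z) := ⟨_, rfl⟩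
  have hA : A.Finite := by rw [hAdef]; exact finite_assPts.image _
  obtain ⟨y₀, hy₀, hy₀A, hy₀c⟩ := exists_closed_pt hcomp z hz A hA hinf
  have hAO : A ⊆ ((⟨(closure {a y₀})ᶜ, isClosed_closure.isOpen_compl⟩ : X.Opens) : Set X) := by
    intro x hx hx'
    have h1 : pX x = pX (a y₀) := by
      have h2 : ∀ y, f y = z → pX (a y) = pZ z := by
        intro y hy
        rw [← Scheme.Hom.comp_apply, hcomp, Scheme.Hom.comp_apply, hy]
      rw [hAdef] at hx
      obtain ⟨w, -, rfl⟩ := hx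
      rw [Scheme.Hom.comp_apply, h2 _ (hfib' w), h2 _ hy₀]
    have h3 := hy₀c x (specializes_iff_mem_closure.2 hx') h1
    rw [h3] at hx
    exact hy₀A hx
  obtain ⟨D, W, hDW, hW, hTW, hWO⟩ := exists_hyper hL _ hA _ hAO
  have hsq := isPullback_inc ζ D.subschemeι u
  rw [← ha] at hsq
  have hD : ∀ x : X, x ∈ Set.range D.subschemeι ↔ x ∉ W := by
    intro x
    rw [Scheme.IdealSheafData.range_subschemeι, ← hDW.mem_support_iff]
    rfl
  refine ⟨pullback ζ D.subschemeι, pullback.fst ζ D.subschemeι ≫ ζ, inferInstance, ?_, ?_, ?_⟩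
  · intro v' hv'
    have e1 : pullback.snd (pullback.fst ζ D.subschemeι ≫ ζ) u ≫ v = inc ζ D.subschemeι u ≫ f := by
      rw [hf, ← Category.assoc, inc_snd]
    rw [e1] at hv' ⊢
    rw [Scheme.Hom.comp_apply] at hv'
    obtain ⟨w, hw⟩ := hfib _ hv'
    obtain ⟨V, c, hxV, hc, hcW⟩ := hDW.loc (a (inc ζ D.subschemeι u v'))
    have hwV : w ∈ (f.fiberι z ≫ a) ⁻¹ᵁ V.1 := by
      change (f.fiberι z ≫ a) w ∈ V.1
      rw [Scheme.Hom.comp_apply, hw]
      exact hxV
    refine Groth.Agent.GrpQ.H768.Slice.isFlatAt_of_isPullback hsq v' (by rw [hf]; exact hflat _ (by rw [← hf]; exact hv'))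
      (X.presheaf.germ V.1 _ hxV c) (fun hd => ker_stalkTo hc _ hxV hd) z w hw ?_
    rw [stalkTo_germ z V.1 c w _ hw hxV hwV]
    refine germ_mem_nonZeroDivisors' _ (fun w' hw' hw'V => ?_) w hwV
    rw [← Scheme.preimage_basicOpen]
    have h1 : (f.fiberι z ≫ a) w' ∈ W := hTW (by rw [hAdef]; exact ⟨w', hw', rfl⟩)
    exact (hcW _ hw'V).mpr h1
  · have h2 : a y₀ ∈ Set.range D.subschemeι := by
      rw [hD]
      intro h3
      exact hWO h3 (subset_closure rfl)
    obtain ⟨d, hd⟩ := h2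
    obtain ⟨v', hv', -⟩ := Scheme.exists_preimage_of_isPullback hsq _ _ hd.symm
    refine ⟨v', ?_⟩
    change (pullback.snd (pullback.fst ζ D.subschemeι ≫ ζ) u ≫ v) v' = z
    have e1 : pullback.snd (pullback.fst ζ D.subschemeι ≫ ζ) u ≫ v = inc ζ D.subschemeι u ≫ f := by
      rw [hf, ← Category.assoc, inc_snd]
    rw [e1, Scheme.Hom.comp_apply, hv', hy₀]
  · refine Set.ssubset_iff_subset_ne.mpr ⟨?_, fun heq => ?_⟩
    · rintro _ ⟨y, rfl⟩
      exact ⟨pullback.fst ζ D.subschemeι y, rfl⟩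
    · obtain ⟨w, hw⟩ := nonempty_assPts (F := f.fiber z)
      have hyW : (f.fiberι z ≫ a) w ∈ W := hTW (by rw [hAdef]; exact ⟨w, hw, rfl⟩)
      have h1 : (f.fiberι z ≫ a) w ∈ Set.range ζ := by
        refine ⟨pullback.fst ζ u (f.fiberι z w), ?_⟩
        rw [Scheme.Hom.comp_apply, ha, ← Scheme.Hom.comp_apply, pullback.condition]
      rw [← heq] at h1
      obtain ⟨y, hy⟩ := h1
      have h2 : (f.fiberι z ≫ a) w ∈ Set.range D.subschemeι := by
        refine ⟨pullback.snd ζ D.subschemeι y, ?_⟩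
        rw [← hy, pullback.condition, Scheme.Hom.comp_apply]
      exact (hD _).1 h2 hyW

end K185.FibreSlice
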