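import Groth.Agent.GrpQ.K185.GraphThm

/-!
# The fppf quotient by an equivalence relation with closed graph is an fpqc sheaf
-/

set_option autoImplicit false
set_option backward.isDefEq.respectTransparency.types false
universe u
open CategoryTheory CategoryTheory.Limits AlgebraicGeometry Opposite MonoidalCategory CartesianMonoidalCategory
open K185.QuotBasic K185.IsQuot K185.Cover K185.SubDesc
open scoped K185

namespace K185.FppfFpqc

open GraphSub

variable {S : Scheme.{u}} {R U : Over S} (s t : R ⟶ U)

theorem J_le : QuotSh.J Scheme.fppfPrecoverage S ≤ QuotSh.J Scheme.fpqcPrecoverage S := by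
  intro T C hC
  rw [QuotSh.J, GrothendieckTopology.mem_over_iff] at hC ⊢
  exact Scheme.fppfTopology_le_fpqcTopology _ hC

/-- The fpqc quotient as an fppf sheaf. -/
noncomputable def G : QuotSh.Sh Scheme.fppfPrecoverage S :=
  ⟨(QuotSh.quot Scheme.fpqcPrecoverage s t).obj, (isSheaf_iff_isSheaf_of_type _ _).2
    (Presieve.isSheaf_of_le _ J_le ((isSheaf_iff_isSheaf_of_type _ _).1
      (QuotSh.quot Scheme.fpqcPrecoverage s t).property))⟩

/-- The universal point of the comparison. -/
noncomputable def compPt : QuotSh.rep Scheme.fppfPrecoverage U ⟶ G s t :=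
  (homEquiv Scheme.fppfPrecoverage (F := G s t)).symm (quotPt Scheme.fpqcPrecoverage s t (𝟙 U))

theorem compPt_pt {T : Over S} (x : T ⟶ U) : (compPt s t).hom.app (op T) (pt Scheme.fppfPrecoverage x) =
    quotPt Scheme.fpqcPrecoverage s t x := by
  refine (homEquiv_symm_pt Scheme.fppfPrecoverage (F := G s t) _ x).trans ?_
  exact (quotPt_eq_map Scheme.fpqcPrecoverage s t x).symm

/-- The comparison map. -/
noncomputable def comparison : QuotSh.quot Scheme.fppfPrecoverage s t ⟶ G s t :=
  coequalizer.desc (compPt s t) (QuotBasic.hom_ext Scheme.fppfPrecoverage (by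
      refine Eq.trans (b := quotPt Scheme.fpqcPrecoverage s t s) ?_
        (Eq.trans (b := quotPt Scheme.fpqcPrecoverage s t t) ?_ ?_)
      · change (compPt s t).hom.app (op R) ((QuotSh.repMap Scheme.fppfPrecoverage s).hom.app (op R)
          (pt Scheme.fppfPrecoverage (𝟙 R))) = _
        rw [repMap_pt, compPt_pt, Category.id_comp]
      · exact quotPt_eq_of_rel _ s t ⟨𝟙 R, Category.id_comp _, Category.id_comp _⟩
      · change _ = (compPt s t).hom.app (op R) ((QuotSh.repMap Scheme.fppfPrecoverage t).hom.app (op R)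
          (pt Scheme.fppfPrecoverage (𝟙 R)))
        rw [repMap_pt, compPt_pt, Category.id_comp]))

theorem comparison_quotPt {T : Over S} (x : T ⟶ U) : (comparison s t).hom.app (op T)
    (quotPt Scheme.fppfPrecoverage s t x) = quotPt Scheme.fpqcPrecoverage s t x := by
  have h : QuotSh.quotπ Scheme.fppfPrecoverage s t ≫ comparison s t = compPt s t :=
    coequalizer.π_desc _ _
  rw [← compPt_pt, ← h]
  rfl

theorem comparison_injective [IsEquivalenceRelation s t] (T : Over S) :
    Function.Injective ((comparison s t).hom.app (op T)) := by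
  intro a b hab
  obtain ⟨C₁, hC₁, h₁⟩ := exists_lift Scheme.fppfPrecoverage s t a
  obtain ⟨C₂, hC₂, h₂⟩ := exists_lift Scheme.fppfPrecoverage s t b
  refine (((isSheaf_iff_isSheaf_of_type _ _).1
    (QuotSh.quot Scheme.fppfPrecoverage s t).property).isSeparated _
      (GrothendieckTopology.intersection_covering _ hC₁ hC₂)).ext ?_
  intro T' f hf
  obtain ⟨x, hx⟩ := h₁ f hf.1
  obtain ⟨y, hy⟩ := h₂ f hf.2
  rw [hx, hy, quotPt_eq_iff_rel]
  have h3 : quotPt Scheme.fpqcPrecoverage s t x = quotPt Scheme.fpqcPrecoverage s t y := by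
    rw [← comparison_quotPt, ← comparison_quotPt, ← hx, ← hy, NatTrans.naturality_apply,
      NatTrans.naturality_apply, hab]
  exact (quotPt_eq_iff_rel Scheme.fpqcPrecoverage s t x y).1 h3

theorem comparison_surjective [IsEquivalenceRelation s t]
    [Flat s.left] [Surjective s.left] [LocallyOfFinitePresentation s.left]
    (N : MorphismProperty Scheme.{u}) [N.IsStableUnderBaseChange] (hN : Eff N)
    (hmono : ∀ {X Y : Scheme.{u}} (f : X ⟶ Y), N f → Mono f) (hc : N (lift t s).left) (T : Over S) :
    Function.Surjective ((comparison s t).hom.app (op T)) := by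
  intro c
  have d1 := QuotProp.flat_descends.{u}
  obtain ⟨Z, i, hi, h⟩ := exists_sub s t c hN hc
  have := hmono _ hi
  have : Mono i := Over.mono_of_mono_left i
  have h : IsSub s t c i := h
  have h1 := h.prop @Flat inferInstance
  have h2 := h.prop @Surjective inferInstance
  have h3 := h.prop @LocallyOfFinitePresentation inferInstance
  have hp : Presieve.singleton (i ≫ snd U T).left ∈ Scheme.fppfPrecoverage T.left :=
    (i ≫ snd U T).left.singleton_mem_fppfPrecoverage
  obtain ⟨y, hy, -⟩ := existsUnique_of_singleton (QuotSh.quot Scheme.fppfPrecoverage s t) (i ≫ snd U T) hp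
    (quotPt Scheme.fppfPrecoverage s t (i ≫ fst U T)) (fun z₁ z₂ hz => by
      rw [map_quotPt, map_quotPt]
      exact quotPt_eq_of_rel _ s t (h.rel z₁ z₂ hz))
  refine ⟨y, map_injective_of_singleton (QuotSh.quot Scheme.fpqcPrecoverage s t) (i ≫ snd U T)
    (Scheme.fppfPrecoverage_le_fpqcPrecoverage _ hp) ?_⟩
  have h4 := NatTrans.naturality_apply (comparison s t).hom (i ≫ snd U T).op y
  rw [hy, comparison_quotPt] at h4
  exact h4.symm.trans h.adm

theorem isSheaf [IsEquivalenceRelation s t]
    [Flat s.left] [Surjective s.left] [LocallyOfFinitePresentation s.left]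
    (N : MorphismProperty Scheme.{u}) [N.IsStableUnderBaseChange] (hN : Eff N)
    (hmono : ∀ {X Y : Scheme.{u}} (f : X ⟶ Y), N f → Mono f) (hc : N (lift t s).left) :
    Presheaf.IsSheaf (QuotSh.J Scheme.fpqcPrecoverage S) (QuotSh.quot Scheme.fppfPrecoverage s t).obj := by
  have h : ∀ T : (Over S)ᵒᵖ, IsIso ((comparison s t).hom.app T) := by
    rintro ⟨T⟩
    rw [isIso_iff_bijective]
    exact ⟨comparison_injective s t T, comparison_surjective s t N hN hmono hc T⟩
  have h' : IsIso (comparison s t).hom := NatIso.isIso_of_isIso_app _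
  exact (Presheaf.isSheaf_of_iso_iff (asIso (comparison s t).hom)).2
    (QuotSh.quot Scheme.fpqcPrecoverage s t).property

end K185.FppfFpqc
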