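import Groth.Agent.S2735
import Mathlib.AlgebraicGeometry.Sites.Fpqc

/-!
# The fppf topology is generated by Zariski coverings and quasi-finite flat morphisms

`fppfTopology_eq` : `Scheme.fppfTopology` is the quasi-compact topology of the property
`QFF` = flat, locally of finite presentation and locally quasi-finite.
-/

set_option autoImplicit false
set_option backward.isDefEq.respectTransparency.types false
universe w u
open CategoryTheory CategoryTheory.Limits AlgebraicGeometry Opposite

namespace K185.FppfQF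

/-- flat, locally of finite presentation and locally quasi-finite -/
abbrev QFF : MorphismProperty Scheme.{u} := @Flat ⊓ @LocallyOfFinitePresentation ⊓ @LocallyQuasiFinite

theorem precoverage_le : Scheme.precoverage QFF.{u} ≤ Scheme.propQCPrecoverage QFF.{u} := by
  rw [Scheme.propQCPrecoverage, le_inf_iff]
  refine ⟨?_, le_rfl⟩
  exact Scheme.precoverage_le_qcPrecoverage_of_isOpenMap fun X Y f ⟨⟨_, _⟩, _⟩ ↦ f.isOpenMap

theorem propQCPrecoverage_le : Scheme.propQCPrecoverage QFF.{u} ≤ Scheme.fppfPrecoverage.{u} :=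
  Scheme.propQCPrecoverage_le_precoverage.trans (Scheme.precoverage_mono fun _ _ _ h => h.1)

theorem exists_cover {X : Scheme.{u}} {R : Presieve X} (hR : R ∈ Scheme.fppfPrecoverage X) :
    ∃ R' ∈ Scheme.propQCPrecoverage QFF.{u} X, R' ≤ (Sieve.generate R).arrows := by
  obtain ⟨E, rfl⟩ := Precoverage.mem_iff_exists_zeroHypercover.1 hR
  have : Precoverage.Small.{u} Scheme.fppfPrecoverage.{u} :=
    inferInstanceAs (Precoverage.Small.{u} (Scheme.precoverage (@Flat ⊓ @LocallyOfFinitePresentation)))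
  let E' := E.restrictIndexOfSmall
  have hE' : Presieve.ofArrows E'.X E'.f ∈ Scheme.precoverage (@Flat ⊓ @LocallyOfFinitePresentation) X :=
    E'.mem₀
  rw [Scheme.ofArrows_mem_precoverage_iff] at hE'
  have h1 : ∀ i, Flat (E'.f i) := fun i => (hE'.2 i).1
  have h2 : ∀ i, LocallyOfFinitePresentation (E'.f i) := fun i => (hE'.2 i).2
  have h3 : Surjective (Sigma.desc E'.f) := by
    apply Surjective.sigmaDesc_of_union_range_eq_univ
    rw [Set.eq_univ_iff_forall]
    intro s
    exact Set.mem_iUnion.mpr (hE'.1 s)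
  have h4 : Flat (Sigma.desc E'.f) := IsZariskiLocalAtSource.sigmaDesc (P := @Flat) h1
  have h5 : LocallyOfFinitePresentation (Sigma.desc E'.f) :=
    IsZariskiLocalAtSource.sigmaDesc (P := @LocallyOfFinitePresentation) h2
  obtain ⟨S', g, h, rfl, g1, g2, g3, g4, -⟩ := Groth.Agent.S2735.result (Sigma.desc E'.f)
  let W : E'.I₀ → S'.Opens := fun i => h ⁻¹ᵁ (Sigma.ι E'.X i).opensRange
  refine ⟨Presieve.ofArrows (fun i => (W i : Scheme.{u})) (fun i => (W i).ι ≫ h ≫ Sigma.desc E'.f),
    precoverage_le _ ?_, ?_⟩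
  · rw [Scheme.ofArrows_mem_precoverage_iff]
    refine ⟨fun x => ?_, fun i => ⟨⟨inferInstance, inferInstance⟩, inferInstance⟩⟩
    obtain ⟨y, rfl⟩ := (h ≫ Sigma.desc E'.f).surjective x
    obtain ⟨⟨i, z⟩, hz⟩ := (sigmaMk E'.X).surjective (h y)
    rw [sigmaMk_mk] at hz
    refine ⟨i, ⟨y, ⟨z, hz⟩⟩, ?_⟩
    rw [Scheme.Hom.comp_apply]
    rfl
  · rintro _ _ ⟨i⟩
    have hr : Set.range ((W i).ι ≫ h) ⊆ Set.range (Sigma.ι E'.X i) := by
      rintro _ ⟨y, rfl⟩
      rw [Scheme.Hom.comp_apply]
      exact y.2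
    let l := IsOpenImmersion.lift (Sigma.ι E'.X i) ((W i).ι ≫ h) hr
    have hl : l ≫ Sigma.ι E'.X i = (W i).ι ≫ h := IsOpenImmersion.lift_fac _ _ _
    refine ⟨E'.X i, l, E'.f i, ⟨_⟩, ?_⟩
    rw [← Category.assoc, ← hl, Category.assoc, Sigma.ι_desc]

theorem fppfTopology_eq : Scheme.fppfTopology.{u} = Scheme.propQCTopology QFF.{u} := by
  refine le_antisymm ?_ (Precoverage.toGrothendieck_mono propQCPrecoverage_le)
  rw [Scheme.fppfTopology, Precoverage.toGrothendieck_le_iff_le_toPrecoverage]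
  intro X R hR
  obtain ⟨R', hR', hle⟩ := exists_cover hR
  change Sieve.generate R ∈ Scheme.propQCTopology QFF.{u} X
  refine GrothendieckTopology.superset_covering _ ?_ (Precoverage.generate_mem_toGrothendieck hR')
  rw [Sieve.generate_le_iff]
  exact hle

theorem isSheaf_iff (F : Scheme.{u}ᵒᵖ ⥤ Type w) :
    Presheaf.IsSheaf Scheme.fppfTopology F ↔
      Presheaf.IsSheaf Scheme.zariskiTopology F ∧
        ∀ (T S : Scheme.{u}) [IsAffine T] [IsAffine S] (f : T ⟶ S)
          [Flat f] [Surjective f] [LocallyOfFinitePresentation f] [LocallyQuasiFinite f],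
          Presieve.IsSheafFor F (Presieve.singleton f) := by
  rw [isSheaf_iff_isSheaf_of_type, isSheaf_iff_isSheaf_of_type]
  constructor
  · intro h
    refine ⟨Presieve.isSheaf_of_le _ (Precoverage.toGrothendieck_mono
      Scheme.zariskiPrecoverage_le_fppfPrecoverage) h, fun T S _ _ f _ _ _ _ => ?_⟩
    exact h.isSheafFor _ (Precoverage.generate_mem_toGrothendieck f.singleton_mem_fppfPrecoverage)
  · rintro ⟨h1, h2⟩
    have : QFF.{u}.IsMultiplicative :=
      { id_mem := fun _ => ⟨⟨inferInstance, inferInstance⟩, inferInstance⟩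
        comp_mem := fun f g hf hg => by
          obtain ⟨⟨_, _⟩, _⟩ := hf
          obtain ⟨⟨_, _⟩, _⟩ := hg
          exact ⟨⟨inferInstance, inferInstance⟩, inferInstance⟩ }
    rw [fppfTopology_eq, isSheaf_type_propQCTopology_iff]
    refine ⟨h1, fun f hf hs => ?_⟩
    have := hf.1.1
    have := hf.1.2
    have := hf.2
    exact h2 _ _ (Spec.map f)

end K185.FppfQF
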