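import Mathlib.AlgebraicGeometry.Sites.Fpqc
import Mathlib.AlgebraicGeometry.Morphisms.FlatDescent
import Mathlib.AlgebraicGeometry.Morphisms.LocalFlatDescent
import Mathlib.AlgebraicGeometry.Cover.Sigma
import Mathlib.CategoryTheory.MorphismProperty.Local

/-!
# fpqc-local properties of morphisms

* `exists_affine_refinement` : over an affine scheme `V ⟶ S`, an fpqc covering family of `S` is refined by a finite
  family of affine schemes whose disjoint union is (affine,) flat and surjective over `V`.
* `isLocalAtTarget_fpqc` : a property stable under base change, Zariski local at the target and descending along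
  flat surjective quasi-compact morphisms is local at the target for `Scheme.fpqcPrecoverage`.
-/

set_option autoImplicit false
set_option backward.isDefEq.respectTransparency.types false
universe u
open CategoryTheory CategoryTheory.Limits AlgebraicGeometry

namespace K185.FpqcLocal

/-- Over an affine scheme, an fpqc covering family is refined by a finite family of affine schemes
whose disjoint union is flat and surjective. -/
theorem exists_affine_refinement {V : Scheme.{u}} [CompactSpace V] {R : Presieve V}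
    (hR : R ∈ Scheme.fpqcPrecoverage V) :
    ∃ (n : ℕ) (W : Fin n → CommRingCat.{u}) (w : ∀ k, Spec (W k) ⟶ V),
      (∀ k, Flat (w k)) ∧ Surjective (Sigma.desc w) ∧
      ∀ k, ∃ (Z : Scheme.{u}) (p : Z ⟶ V) (g : Spec (W k) ⟶ Z), R p ∧ IsOpenImmersion g ∧ g ≫ p = w k := by
  obtain ⟨𝒰, rfl⟩ := Precoverage.mem_iff_exists_zeroHypercover.1 hR
  let 𝒰' : V.Cover (Scheme.precoverage @Flat) :=
    𝒰.weaken Scheme.propQCPrecoverage_le_precoverage
  have hqc : QuasiCompactCover 𝒰'.toPreZeroHypercover := by
    rw [← Scheme.presieve₀_mem_qcPrecoverage_iff]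
    exact 𝒰.mem₀.1
  obtain ⟨𝒱, f, hfin, hf⟩ := QuasiCompactCover.exists_hom 𝒰'
  obtain ⟨n, ⟨e⟩⟩ := Finite.exists_equiv_fin 𝒱.I₀
  refine ⟨n, fun k => 𝒱.X (e.symm k), fun k => 𝒱.f (e.symm k), fun k => 𝒱.map_prop _, ?_, fun k => ?_⟩
  · apply Surjective.sigmaDesc_of_union_range_eq_univ
    rw [Set.eq_univ_iff_forall]
    intro x
    rw [Set.mem_iUnion]
    refine ⟨e (𝒱.idx x), ?_⟩
    have h := 𝒱.covers x
    generalize 𝒱.idx x = i at h
    obtain ⟨j, rfl⟩ := e.symm.surjective i
    rwa [Equiv.apply_symm_apply]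
  · exact ⟨𝒰'.X (f.s₀ (e.symm k)), 𝒰'.f (f.s₀ (e.symm k)), f.h₀ (e.symm k), ⟨_⟩, hf _, f.w₀ _⟩

/-- A property of morphisms which is stable under base change, Zariski local at the target and
descends along flat surjective quasi-compact morphisms is local for fpqc coverings of the target. -/
theorem isLocalAtTarget_fpqc (P : MorphismProperty Scheme.{u}) [P.IsStableUnderBaseChange]
    [IsZariskiLocalAtTarget P] [P.DescendsAlong (@Surjective ⊓ @Flat ⊓ @QuasiCompact)] :
    P.IsLocalAtTarget Scheme.fpqcPrecoverage.{u} := by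
  refine MorphismProperty.IsLocalAtTarget.mk_of_isStableUnderBaseChange ?_
  intro X Y f 𝒰 h
  refine IsZariskiLocalAtTarget.of_openCover Y.affineCover fun i => ?_
  let j := Y.affineCover.f i
  have hR := (Scheme.fpqcPrecoverage.pullbackArrows_mem j 𝒰.mem₀)
  obtain ⟨n, W, w, hw, hs, hg⟩ := exists_affine_refinement hR
  let q : (∐ fun k => Spec (W k)) ⟶ Y.affineCover.X i := Sigma.desc w
  have hq1 : Flat q := inferInstance
  have hq2 : QuasiCompact q := inferInstance
  have hq : (@Surjective ⊓ @Flat ⊓ @QuasiCompact : MorphismProperty Scheme.{u}) q :=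
    ⟨⟨hs, hq1⟩, hq2⟩
  refine MorphismProperty.of_isPullback_of_descendsAlong
    (IsPullback.of_hasPullback q (pullback.snd f j)) hq ?_
  rw [IsZariskiLocalAtTarget.iff_of_openCover (P := P) (sigmaOpenCover fun k => Spec (W k))]
  intro k
  obtain ⟨Z, p, g, hp, -, hgp⟩ := hg k
  obtain ⟨Z', p', hp⟩ := hp
  obtain ⟨i₀⟩ := hp
  have h1 := h i₀
  change P (pullback.snd (pullback.fst q (pullback.snd f j)) (Sigma.ι (fun k => Spec (W k)) k))
  -- the base change of `f` to `W k` is a base change of `pullback.snd f (𝒰.f i₀)`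
  have sq : IsPullback (pullback.fst (pullback.fst q (pullback.snd f j))
      (Sigma.ι (fun k => Spec (W k)) k) ≫ pullback.snd q (pullback.snd f j) ≫ pullback.fst f j)
      (pullback.snd (pullback.fst q (pullback.snd f j)) (Sigma.ι (fun k => Spec (W k)) k))
      f (Sigma.ι (fun k => Spec (W k)) k ≫ q ≫ j) :=
    (IsPullback.of_hasPullback (pullback.fst q (pullback.snd f j))
      (Sigma.ι (fun k => Spec (W k)) k)).paste_horiz
      ((IsPullback.of_hasPullback q (pullback.snd f j)).flip.paste_horiz
        (IsPullback.of_hasPullback f j))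
  have e : Sigma.ι (fun k => Spec (W k)) k ≫ q ≫ j =
      (g ≫ pullback.fst (𝒰.f i₀) j) ≫ 𝒰.f i₀ := by
    rw [Category.assoc, pullback.condition, ← Category.assoc, ← Category.assoc, hgp, Sigma.ι_desc]
  rw [e] at sq
  have sq2 := IsPullback.of_right (h₁₁ := pullback.lift _ _ (sq.w.trans (Category.assoc _ _ _).symm))
    (by rwa [pullback.lift_fst]) (pullback.lift_snd _ _ _) (IsPullback.of_hasPullback f (𝒰.f i₀))
  exact MorphismProperty.of_isPullback sq2 h1

end K185.FpqcLocal
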