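import Groth.Agent.GrpQ.K185.Cover
import Groth.Agent.GrpQ.K185.Inst
import Groth.Agent.GrpQ.K185.FpqcLocal
import Mathlib.RingTheory.Flat.FaithfullyFlat.Basic

/-!
# Properties of quotient morphisms

`prop_of_isKernelPair` : if `(s, t)` is the kernel pair of `q`, `q` is locally surjective for the fpqc topology and `P`
is fpqc local at the target and stable under base change, then `P s` implies `P q`.
-/

set_option autoImplicit false
universe u
open CategoryTheory CategoryTheory.Limits AlgebraicGeometry Opposite
open K185 K185.QuotBasic K185.IsQuot K185.Cover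

namespace K185.QuotProp

/-- Flatness codescends along faithfully flat ring maps. -/
theorem flat_codescends : RingHom.CodescendsAlong.{u} RingHom.Flat RingHom.FaithfullyFlat := by
  refine RingHom.CodescendsAlong.mk _ RingHom.Flat.respectsIso fun R S T _ _ _ _ _ h h' ↦ ?_
  rw [RingHom.flat_algebraMap_iff] at h' ⊢
  rw [RingHom.faithfullyFlat_algebraMap_iff] at h
  exact Module.Flat.of_flat_tensorProduct R T S

theorem flat_descends : MorphismProperty.DescendsAlong @Flat
    (@Surjective ⊓ @Flat ⊓ @QuasiCompact : MorphismProperty Scheme.{u}) :=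
  HasRingHomProperty.descendsAlong_flat flat_codescends

theorem LocSurj.of_le {K L : Precoverage Scheme.{u}} (h : K ≤ L) {S : Scheme.{u}} {U M : Over S}
    {q : U ⟶ M} (hq : LocSurj K q) : LocSurj L q := by
  obtain ⟨C, hC, h'⟩ := hq
  refine ⟨C, ?_, h'⟩
  have := Precoverage.toGrothendieck_mono h
  rw [QuotSh.J, GrothendieckTopology.mem_over_iff] at hC ⊢
  exact this _ hC

theorem prop_of_isKernelPair (P : MorphismProperty Scheme.{u}) [P.IsStableUnderBaseChange]
    [IsZariskiLocalAtTarget P] [P.DescendsAlong (@Surjective ⊓ @Flat ⊓ @QuasiCompact)]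
    {S : Scheme.{u}} {R U M : Over S} {s t : R ⟶ U} {q : U ⟶ M} (h : IsKernelPair q s t)
    (hq : LocSurj Scheme.fpqcPrecoverage q) (hs : P s.left) : P q.left := by
  have hloc : P.IsLocalAtTarget Scheme.fpqcPrecoverage.{u} := FpqcLocal.isLocalAtTarget_fpqc P
  obtain ⟨ι, Z, p, x, hp, hx⟩ := (locSurj_iff_exists_ofArrows q).1 hq
  refine MorphismProperty.IsLocalAtTarget.of_forall_pullbackSnd hp ?_
  intro V g _ hg
  obtain ⟨i⟩ := hg
  have h' : IsPullback s.left t.left q.left q.left := h.map (Over.forget S)
  have sq : IsPullback (pullback.fst s.left (x i).left ≫ t.left) (pullback.snd s.left (x i).left)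
      q.left ((x i).left ≫ q.left) :=
    (IsPullback.of_hasPullback s.left (x i).left).paste_horiz h'.flip
  rw [← Over.comp_left, hx i] at sq
  have h3 : P (pullback.snd s.left (x i).left) := MorphismProperty.pullback_snd _ _ hs
  have h4 := sq.isoPullback_inv_snd
  rw [← h4]
  exact (P.cancel_left_of_respectsIso _ _).2 h3

end K185.QuotProp
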