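import Groth.Agent.GrpQ.K185.GraphSub
import Groth.Agent.GrpQ.K185.QuotProp

/-!
# The subscheme of `U ×_S T` attached to a section of `U/R`

`IsSub s t c i` : `i : Z ⟶ U ⊗ T` represents the admissible points of `c`. Its properties: stability
under `R`, properties of `Z ⟶ T`, uniqueness, and a characterization.
-/

set_option autoImplicit false
universe u
open CategoryTheory CategoryTheory.Limits AlgebraicGeometry Opposite MonoidalCategory CartesianMonoidalCategory
open K185.QuotBasic K185.IsQuot K185.Cover K185.SubDesc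
open scoped K185

namespace K185.GraphSub

variable {S : Scheme.{u}} {R U : Over S} (s t : R ⟶ U) {T : Over S}
  (c : (QuotSh.quot Scheme.fpqcPrecoverage s t).obj.obj (op T))

/-- `i : Z ⟶ U ⊗ T` represents the admissible points. -/
def IsSub {Z : Over S} (i : Z ⟶ U ⊗ T) : Prop :=
  ∀ ⦃W : Over S⦄ (w : W ⟶ U ⊗ T), (∃ z : W ⟶ Z, z ≫ i = w) ↔ Adm s t c (w ≫ fst U T) (w ≫ snd U T)

variable {s t c} {Z : Over S} {i : Z ⟶ U ⊗ T}

theorem IsSub.adm (h : IsSub s t c i) : Adm s t c (i ≫ fst U T) (i ≫ snd U T) :=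
  (h i).1 ⟨𝟙 _, Category.id_comp _⟩

theorem IsSub.stable (h : IsSub s t c i) {T' : Over S} (r : T' ⟶ R ⊗ T) :
    (∃ z : T' ⟶ Z, z ≫ i = r ≫ (s ▷ T)) ↔ (∃ z : T' ⟶ Z, z ≫ i = r ≫ (t ▷ T)) := by
  rw [h, h]
  simp only [Category.assoc, whiskerRight_fst, whiskerRight_snd]
  have : quotPt Scheme.fpqcPrecoverage s t (r ≫ fst R T ≫ s) =
      quotPt Scheme.fpqcPrecoverage s t (r ≫ fst R T ≫ t) :=
    quotPt_eq_of_rel _ s t ⟨r ≫ fst R T, by rw [Category.assoc], by rw [Category.assoc]⟩
  rw [Adm, Adm, this]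

theorem IsSub.rel [IsEquivalenceRelation s t] (h : IsSub s t c i) {T' : Over S} (z₁ z₂ : T' ⟶ Z)
    (hz : z₁ ≫ i ≫ snd U T = z₂ ≫ i ≫ snd U T) : Rel s t (z₁ ≫ i ≫ fst U T) (z₂ ≫ i ≫ fst U T) := by
  have h1 := h.adm.comp z₁
  have h2 := h.adm.comp z₂
  rw [← hz] at h2
  exact (adm_iff_rel h1).1 h2

theorem IsSub.fac (h : IsSub s t c i) :
    QuotSh.repMap Scheme.fpqcPrecoverage (i ≫ fst U T) ≫ QuotSh.quotπ Scheme.fpqcPrecoverage s t =
      QuotSh.repMap Scheme.fpqcPrecoverage (i ≫ snd U T) ≫ (homEquiv Scheme.fpqcPrecoverage).symm c := by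
  rw [← (homEquiv _).injective.eq_iff, homEquiv_repMap_comp, homEquiv_repMap_comp,
      homEquiv_apply _ (QuotSh.quotπ _ s t), Equiv.apply_symm_apply]
  change (QuotSh.quot Scheme.fpqcPrecoverage s t).obj.map (i ≫ fst U T).op
    (quotPt Scheme.fpqcPrecoverage s t (𝟙 U)) = _
  rw [← quotPt_eq_map]
  exact h.adm

theorem adm_of_fac (h : QuotSh.repMap Scheme.fpqcPrecoverage (i ≫ fst U T) ≫ QuotSh.quotπ Scheme.fpqcPrecoverage s t =
      QuotSh.repMap Scheme.fpqcPrecoverage (i ≫ snd U T) ≫ (homEquiv Scheme.fpqcPrecoverage).symm c) :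
    Adm s t c (i ≫ fst U T) (i ≫ snd U T) := by
  rw [← (homEquiv _).injective.eq_iff, homEquiv_repMap_comp, homEquiv_repMap_comp,
      homEquiv_apply _ (QuotSh.quotπ _ s t), Equiv.apply_symm_apply] at h
  refine Eq.trans ?_ h
  rw [quotPt_eq_map]
  rfl

/-- Over the source of a lift `x` of `c`, the subscheme is the base change of `s` along `x`. -/
theorem IsSub.prop [IsEquivalenceRelation s t] (h : IsSub s t c i) [Mono i] (P : MorphismProperty Scheme.{u})
    [P.IsStableUnderBaseChange] [IsZariskiLocalAtTarget P]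
    [P.DescendsAlong (@Surjective ⊓ @Flat ⊓ @QuasiCompact)] (hs : P s.left) : P (i ≫ snd U T).left := by
  have hloc : P.IsLocalAtTarget Scheme.fpqcPrecoverage.{u} := FpqcLocal.isLocalAtTarget_fpqc P
  obtain ⟨ι, V, p, x, hp, hx⟩ := exists_cover s t c
  refine MorphismProperty.IsLocalAtTarget.of_forall_pullbackSnd hp ?_
  intro V g _ hg
  obtain ⟨k⟩ := hg
  -- the pullback square
  have h1 : Adm s t c (pullback.fst s (x k) ≫ t) (pullback.snd s (x k) ≫ p k) := by
    rw [adm_iff_rel ((hx k).comp (pullback.snd s (x k)))]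
    exact ⟨pullback.fst s (x k), pullback.condition, rfl⟩
  obtain ⟨a, ha⟩ := (h (lift (pullback.fst s (x k) ≫ t) (pullback.snd s (x k) ≫ p k))).2 (by
    rwa [lift_fst, lift_snd])
  have ha' : a ≫ i ≫ fst U T = pullback.fst s (x k) ≫ t := by
    rw [← Category.assoc, ha, lift_fst]
  have ha'' : a ≫ i ≫ snd U T = pullback.snd s (x k) ≫ p k := by
    rw [← Category.assoc, ha, lift_snd]
  have key : ∀ {W : Over S} (y : W ⟶ Z) (z : W ⟶ V k), y ≫ i ≫ snd U T = z ≫ p k →
      ∃ r : W ⟶ R, r ≫ s = z ≫ x k ∧ r ≫ t = y ≫ i ≫ fst U T := by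
    intro W y z hyz
    have h2 := h.adm.comp y
    rw [hyz] at h2
    exact (adm_iff_rel ((hx k).comp z)).1 h2
  choose ρ hρ₁ hρ₂ using @key
  have sq : IsPullback a (pullback.snd s (x k)) (i ≫ snd U T) (p k) := by
    refine IsPullback.of_isLimit' ⟨ha''⟩ ?_
    refine PullbackCone.IsLimit.mk _
      (fun σ => pullback.lift (ρ σ.fst σ.snd σ.condition) σ.snd (hρ₁ _ _ _))
      (fun σ => ?_) (fun σ => pullback.lift_snd _ _ _) (fun σ m hm₁ hm₂ => ?_)
    · rw [← cancel_mono i]
      ext1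
      · rw [Category.assoc, Category.assoc, ha', ← Category.assoc, pullback.lift_fst, hρ₂, Category.assoc]
      · rw [Category.assoc, Category.assoc, ha'', ← Category.assoc, pullback.lift_snd, ← σ.condition,
          Category.assoc]
    · refine pullback.hom_ext ?_ ?_
      · rw [pullback.lift_fst]
        refine rel_unique s t ?_ ?_
        · rw [hρ₁, Category.assoc, pullback.condition, ← Category.assoc, hm₂]
        · rw [hρ₂, Category.assoc, ← ha', ← Category.assoc, hm₁]
      · rw [pullback.lift_snd, hm₂]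
  have sq1 : IsPullback (pullback.fst s (x k)).left (pullback.snd s (x k)).left s.left (x k).left :=
    (IsPullback.of_hasPullback s (x k)).map (Over.forget S)
  have sq2 : IsPullback a.left (pullback.snd s (x k)).left (i ≫ snd U T).left (p k).left :=
    sq.map (Over.forget S)
  have h3 : P (pullback.snd s (x k)).left := MorphismProperty.of_isPullback sq1 hs
  rw [← sq2.isoPullback_inv_snd]
  exact (P.cancel_left_of_respectsIso _ _).2 h3

/-- A subscheme with the listed properties represents the admissible points. -/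
theorem isSub_of [IsEquivalenceRelation s t] [Mono i]
    (hst : ∀ (T' : Over S) (r : T' ⟶ R ⊗ T),
      (∃ z : T' ⟶ Z, z ≫ i = r ≫ (s ▷ T)) ↔ (∃ z : T' ⟶ Z, z ≫ i = r ≫ (t ▷ T)))
    (h1 : Flat (i ≫ snd U T).left) (h2 : Surjective (i ≫ snd U T).left)
    (h3 : QuasiCompact (i ≫ snd U T).left)
    (h : Adm s t c (i ≫ fst U T) (i ≫ snd U T)) : IsSub s t c i := by
  intro W w
  constructor
  · rintro ⟨z, rfl⟩
    rw [Category.assoc, Category.assoc]
    exact h.comp z
  · intro hw
    let W' : Over S := pullback (i ≫ snd U T) (w ≫ snd U T)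
    let z₁ : W' ⟶ Z := pullback.fst _ _
    let g : W' ⟶ W := pullback.snd _ _
    have hg : z₁ ≫ i ≫ snd U T = g ≫ w ≫ snd U T := pullback.condition
    have sq : IsPullback z₁.left g.left (i ≫ snd U T).left (w ≫ snd U T).left :=
      (IsPullback.of_hasPullback (i ≫ snd U T) (w ≫ snd U T)).map (Over.forget S)
    have hg1 : Flat g.left := MorphismProperty.of_isPullback (P := @Flat) sq h1
    have hg2 : Surjective g.left := MorphismProperty.of_isPullback (P := @Surjective) sq h2
    have hg3 : QuasiCompact g.left := MorphismProperty.of_isPullback (P := @QuasiCompact) sq h3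
    have h4 := h.comp z₁
    rw [hg] at h4
    obtain ⟨r, hr₁, hr₂⟩ := (adm_iff_rel h4).1 (hw.comp g)
    have h5 := (hst W' (lift r (g ≫ w ≫ snd U T))).1 ⟨z₁, by
      ext1
      · simp only [Category.assoc, whiskerRight_fst, lift_fst_assoc, hr₁]
      · simp only [Category.assoc, whiskerRight_snd, lift_snd, hg]⟩
    obtain ⟨z, hz⟩ := h5
    have h6 : z ≫ i = g ≫ w := by
      rw [hz]
      ext1
      · simp only [Category.assoc, whiskerRight_fst, lift_fst_assoc, hr₂]
      · simp only [Category.assoc, whiskerRight_snd, lift_snd]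
    obtain ⟨v, hv⟩ := exists_fac_of_local i.left w.left _ g.left.singleton_mem_fpqcPrecoverage (by
      rintro _ _ ⟨⟩
      exact ⟨z.left, congrArg CommaMorphism.left h6⟩)
    exact ⟨Over.homMk v (by rw [← Over.w i, ← Category.assoc, hv, Over.w w]), Over.OverMorphism.ext hv⟩

/-- Uniqueness. -/
theorem IsSub.iso {Z' : Over S} {i' : Z' ⟶ U ⊗ T} [Mono i] [Mono i'] (h : IsSub s t c i)
    (h' : IsSub s t c i') : ∃ e : Z ≅ Z', e.hom ≫ i' = i := by
  obtain ⟨a, ha⟩ := (h' i).2 h.adm
  obtain ⟨b, hb⟩ := (h i').2 h'.adm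
  refine ⟨⟨a, b, ?_, ?_⟩, ha⟩
  · rw [← cancel_mono i, Category.assoc, hb, ha, Category.id_comp]
  · rw [← cancel_mono i', Category.assoc, ha, hb, Category.id_comp]

end K185.GraphSub
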