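import Groth.Agent.GrpQ.K185.SubDesc
import Groth.Agent.GrpQ.K185.Cover
import Groth.Agent.GrpQ.K185.Inst

/-!
# Sections of the fpqc quotient `U/R` and subschemes of `U ×_S T`

For an equivalence relation `s, t : R ⇉ U` of schemes over `S` and a section `c` of the fpqc quotient
`U/R` over `T` :

* `Adm s t c u m` : the point `(u, m)` of `U ×_S T` satisfies `[u] = m^* c`.
* `exists_sub` : if `(t, s) : R ⟶ U ×_S U` has a property `N` of monomorphisms effective for fpqc descent
  (`Eff N`), then the admissible points form a subscheme of `U ×_S T` with property `N`.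
-/

set_option autoImplicit false
universe u
open CategoryTheory CategoryTheory.Limits AlgebraicGeometry Opposite MonoidalCategory CartesianMonoidalCategory
open K185.QuotBasic K185.IsQuot K185.Cover K185.SubDesc
open scoped K185

namespace K185.GraphSub

/-- The property `N` of morphisms is effective for the fpqc descent of subobjects. -/
def Eff (N : MorphismProperty Scheme.{u}) : Prop :=
  ∀ {S : Scheme.{u}} {Q : ∀ ⦃T : Scheme.{u}⦄, (T ⟶ S) → Prop} (_ : IsFpqcLocal Q) {ι : Type u}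
    {X : ι → Scheme.{u}} (f : ∀ i, X i ⟶ S) (_ : Presieve.ofArrows X f ∈ Scheme.fpqcPrecoverage S)
    (_ : ∀ i, ∃ (Z : Scheme.{u}) (z : Z ⟶ X i), N z ∧
      ∀ ⦃T : Scheme.{u}⦄ (x : T ⟶ X i), Q (x ≫ f i) ↔ ∃ v : T ⟶ Z, v ≫ z = x),
    ∃ (Z : Scheme.{u}) (z : Z ⟶ S), N z ∧
      ∀ ⦃T : Scheme.{u}⦄ (h : T ⟶ S), Q h ↔ ∃ v : T ⟶ Z, v ≫ z = h

variable {S : Scheme.{u}} {R U : Over S} (s t : R ⟶ U) {T : Over S}
  (c : (QuotSh.quot Scheme.fpqcPrecoverage s t).obj.obj (op T))

/-- The point `(u, m)` of `U ×_S T` is admissible: `[u] = m^* c`. -/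
def Adm {W : Over S} (u : W ⟶ U) (m : W ⟶ T) : Prop :=
  quotPt Scheme.fpqcPrecoverage s t u = (QuotSh.quot Scheme.fpqcPrecoverage s t).obj.map m.op c

variable {s t c}

theorem Adm.comp {W' W : Over S} (g : W' ⟶ W) {u : W ⟶ U} {m : W ⟶ T} (h : Adm s t c u m) :
    Adm s t c (g ≫ u) (g ≫ m) := by
  rw [Adm, op_comp, Functor.map_comp_apply, ← h, map_quotPt]

theorem adm_of_local {W : Over S} {u : W ⟶ U} {m : W ⟶ T} {ι : Type*} {Z : ι → Over S} (p : ∀ i, Z i ⟶ W)
    (hp : Presieve.ofArrows (fun i => (Z i).left) (fun i => (p i).left) ∈ Scheme.fpqcPrecoverage W.left)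
    (h : ∀ i, Adm s t c (p i ≫ u) (p i ≫ m)) : Adm s t c u m := by
  refine ext_of_ofArrows _ p hp fun i => ?_
  rw [map_quotPt, h i, op_comp, Functor.map_comp_apply]

variable (s t c)

/-- Admissibility as a predicate on morphisms of schemes to `U ×_S T`. -/
def AdmQ ⦃W : Scheme.{u}⦄ (h : W ⟶ (U ⊗ T).left) : Prop :=
  Adm s t c ((Over.homMk h : Over.mk (h ≫ (U ⊗ T).hom) ⟶ U ⊗ T) ≫ fst U T)
    ((Over.homMk h : Over.mk (h ≫ (U ⊗ T).hom) ⟶ U ⊗ T) ≫ snd U T)

variable {s t c}

theorem admQ_iff {W : Over S} (w : W ⟶ U ⊗ T) :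
    AdmQ s t c w.left ↔ Adm s t c (w ≫ fst U T) (w ≫ snd U T) := by
  let W' : Over S := Over.mk (w.left ≫ (U ⊗ T).hom)
  let a : W ⟶ W' := Over.homMk (𝟙 W.left) (by
    change 𝟙 _ ≫ w.left ≫ (U ⊗ T).hom = _; rw [Category.id_comp, Over.w w])
  let b : W' ⟶ W := Over.homMk (𝟙 W.left) (by
    change 𝟙 _ ≫ W.hom = w.left ≫ (U ⊗ T).hom; rw [Category.id_comp, Over.w w])
  have ha : a ≫ (Over.homMk w.left : W' ⟶ U ⊗ T) = w := Over.OverMorphism.ext (Category.id_comp w.left)
  have hb : b ≫ w = (Over.homMk w.left : W' ⟶ U ⊗ T) := Over.OverMorphism.ext (Category.id_comp w.left)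
  constructor
  · intro h
    have := Adm.comp a h
    rwa [← Category.assoc, ← Category.assoc, ha] at this
  · intro h
    have := Adm.comp b h
    rwa [← Category.assoc, ← Category.assoc, hb] at this

variable (s t c)

theorem isFpqcLocal_admQ : IsFpqcLocal (AdmQ s t c) where
  comp W W' g h hh := by
    let a : Over.mk ((g ≫ h) ≫ (U ⊗ T).hom) ⟶ Over.mk (h ≫ (U ⊗ T).hom) :=
      Over.homMk g (Category.assoc _ _ _).symm
    let b : Over.mk (h ≫ (U ⊗ T).hom) ⟶ U ⊗ T := Over.homMk h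
    have h1 : Adm s t c ((a ≫ b) ≫ fst U T) ((a ≫ b) ≫ snd U T) := by
      rw [Category.assoc a b, Category.assoc a b]; exact Adm.comp a hh
    exact (admQ_iff (a ≫ b)).2 h1
  loc W h P hP hh := by
    obtain ⟨ι, Z, p, rfl⟩ := P.exists_eq_ofArrows
    let V : Over S := Over.mk (h ≫ (U ⊗ T).hom)
    let q : ∀ i, Over.mk (p i ≫ V.hom) ⟶ V := fun i => Over.homMk (p i)
    refine adm_of_local q hP fun i => ?_
    have h1 := (admQ_iff (q i ≫ (Over.homMk h : V ⟶ U ⊗ T))).1 (hh (p i) ⟨i⟩)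
    rwa [Category.assoc, Category.assoc] at h1

/-- `c` lifts to `U` on the members of an fpqc covering family. -/
theorem exists_cover : ∃ (ι : Type u) (Z : ι → Over S) (p : ∀ i, Z i ⟶ T) (x : ∀ i, Z i ⟶ U),
    Presieve.ofArrows (fun i => (Z i).left) (fun i => (p i).left) ∈ Scheme.fpqcPrecoverage T.left ∧
      ∀ i, Adm s t c (x i) (p i) := by
  obtain ⟨C, hC, h⟩ := exists_lift Scheme.fpqcPrecoverage s t c
  obtain ⟨ι, Z, p, hp, hpC⟩ := exists_ofArrows_of_mem_J hC
  choose x hx using fun i => h (p i) (hpC i)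
  exact ⟨ι, Z, p, x, hp, fun i => (hx i).symm⟩

variable {s t c}

theorem adm_iff_rel [IsEquivalenceRelation s t] {W : Over S} {u₀ u : W ⟶ U} {m : W ⟶ T}
    (h : Adm s t c u₀ m) : Adm s t c u m ↔ Rel s t u₀ u := by
  rw [Adm, ← h, eq_comm]
  exact quotPt_eq_iff_rel _ s t u₀ u

variable (s t c)

/-- **The subscheme of `U ×_S T` of admissible points.** -/
theorem exists_sub [IsEquivalenceRelation s t] {N : MorphismProperty Scheme.{u}} [N.IsStableUnderBaseChange]
    (hN : Eff N) (hN2 : N (lift t s).left) :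
    ∃ (Z : Over S) (i : Z ⟶ U ⊗ T), N i.left ∧ ∀ ⦃W : Over S⦄ (w : W ⟶ U ⊗ T),
      (∃ z : W ⟶ Z, z ≫ i = w) ↔ Adm s t c (w ≫ fst U T) (w ≫ snd U T) := by
  obtain ⟨ι, Z, p, x, hp, hx⟩ := exists_cover s t c
  have hf := Precoverage.mem_coverings_of_isPullback (J := Scheme.fpqcPrecoverage) _ hp (snd U T).left
    (fun k => pullback.fst (snd U T).left (p k).left) (fun k => pullback.snd (snd U T).left (p k).left)
    fun k => IsPullback.of_hasPullback _ _
  obtain ⟨A, a, ha, h⟩ := hN (isFpqcLocal_admQ s t c) _ hf fun k => by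
    let X : Over S := Over.mk (pullback.fst (snd U T).left (p k).left ≫ (U ⊗ T).hom)
    let F : X ⟶ U ⊗ T := Over.homMk (pullback.fst (snd U T).left (p k).left)
    let b : X ⟶ Z k := Over.homMk (pullback.snd (snd U T).left (p k).left) (by
      change _ = pullback.fst (snd U T).left (p k).left ≫ (U ⊗ T).hom
      rw [← Over.w (snd U T), ← Category.assoc, pullback.condition, Category.assoc, Over.w])
    have hFb : F ≫ snd U T = b ≫ p k := Over.OverMorphism.ext pullback.condition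
    let y : X ⟶ U ⊗ U := lift (F ≫ fst U T) (b ≫ x k)
    refine ⟨_, pullback.snd (lift t s).left y.left, MorphismProperty.pullback_snd _ _ hN2, fun W v => ?_⟩
    let v' : Over.mk (v ≫ X.hom) ⟶ X := Over.homMk v
    have h1 : AdmQ s t c (v ≫ pullback.fst (snd U T).left (p k).left) ↔
        Adm s t c ((v' ≫ F) ≫ fst U T) ((v' ≫ F) ≫ snd U T) := admQ_iff (v' ≫ F)
    have h2 : Adm s t c (v' ≫ b ≫ x k) ((v' ≫ F) ≫ snd U T) := by
      rw [Category.assoc v', hFb]
      exact Adm.comp _ (Adm.comp _ (hx k))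
    rw [h1, adm_iff_rel h2]
    constructor
    · rintro ⟨r, hr₁, hr₂⟩
      refine ⟨pullback.lift r.left v ?_, pullback.lift_snd _ _ _⟩
      have h3 : r ≫ lift t s = v' ≫ y := by
        ext1
        · rw [Category.assoc, Category.assoc, lift_fst, lift_fst, hr₂, Category.assoc]
        · rw [Category.assoc, Category.assoc, lift_snd, lift_snd, hr₁]
      exact congrArg CommaMorphism.left h3
    · rintro ⟨r, hr⟩
      have hr' : (r ≫ pullback.fst (lift t s).left y.left) ≫ (lift t s).left = v ≫ y.left := by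
        rw [Category.assoc, pullback.condition, ← Category.assoc, hr]
      let r' : Over.mk (v ≫ X.hom) ⟶ R := Over.homMk (r ≫ pullback.fst (lift t s).left y.left) (by
        change _ = v ≫ X.hom
        rw [← Over.w (lift t s), ← Category.assoc, hr', Category.assoc, Over.w])
      have h3 : r' ≫ lift t s = v' ≫ y := Over.OverMorphism.ext hr'
      refine ⟨r', ?_, ?_⟩
      · have := congrArg (· ≫ snd U U) h3
        simp only [Category.assoc, lift_snd] at this
        exact this.trans (by rw [lift_snd])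
      · have := congrArg (· ≫ fst U U) h3
        simp only [Category.assoc, lift_fst] at this
        exact this.trans (by rw [lift_fst, Category.assoc])
  refine ⟨Over.mk (a ≫ (U ⊗ T).hom), Over.homMk a, ha, fun W w => ?_⟩
  rw [← admQ_iff, h]
  constructor
  · rintro ⟨z, rfl⟩
    exact ⟨z.left, rfl⟩
  · rintro ⟨v, hv⟩
    exact ⟨Over.homMk v (by
      change v ≫ a ≫ (U ⊗ T).hom = _
      rw [← Category.assoc, hv, Over.w]), Over.OverMorphism.ext hv⟩

end K185.GraphSub
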