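import Groth.Agent.GrpQ.K185.SubDesc

/-!
# fpqc descent of open subschemes

* `isOpen_of_fpqc` : a subset is open if its preimages under the members of an fpqc covering family are.
* `exists_open` : fpqc descent of open subschemes in terms of predicates.
-/

set_option autoImplicit false
set_option backward.isDefEq.respectTransparency false
set_option backward.isDefEq.respectTransparency.types false
universe u
open CategoryTheory CategoryTheory.Limits AlgebraicGeometry Opposite

namespace K185.SubDesc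

variable {S : Scheme.{u}}

/-- A subset is open if its preimages under the members of an fpqc covering family are. -/
theorem isOpen_of_fpqc {ι : Type u} {X : ι → Scheme.{u}} (f : ∀ i, X i ⟶ S)
    (hf : Presieve.ofArrows X f ∈ Scheme.fpqcPrecoverage S) (O : Set S)
    (h : ∀ i, IsOpen (f i ⁻¹' O)) : IsOpen O := by
  have h1 := FamRep.flat_sigma f hf
  have h2 := FamRep.surjective_sigma f hf
  have h3 : IsOpen (Sigma.desc f ⁻¹' O) := by
    have h4 : IsOpen (sigmaMk X ⁻¹' (Sigma.desc f ⁻¹' O)) := by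
      rw [isOpen_sigma_iff]
      intro i
      convert h i using 1
      ext x
      change Sigma.desc f (sigmaMk X ⟨i, x⟩) ∈ O ↔ f i x ∈ O
      rw [sigmaMk_mk, ← Scheme.Hom.comp_apply, Sigma.ι_desc]
    exact (sigmaMk X).isOpen_preimage.1 h4
  rw [isOpen_iff_mem_nhds]
  intro s hs
  obtain ⟨_, ⟨V, hV, rfl⟩, hsV, -⟩ := S.isBasis_affineOpens.exists_subset_of_mem_open
    (Set.mem_univ s) isOpen_univ
  let V : S.Opens := V
  obtain ⟨W, hW, hWV⟩ := FamRep.qc_sigma f hf V hV
  have hVa : IsAffine V := hV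
  have hWc : CompactSpace W := isCompact_iff_compactSpace.mp hW
  have hr : Set.range (W.ι ≫ Sigma.desc f) ⊆ Set.range V.ι := by
    rintro _ ⟨x, rfl⟩
    rw [Scheme.Opens.range_ι, Scheme.Hom.comp_apply]
    rw [← hWV]
    exact ⟨x.1, x.2, rfl⟩
  let g : W.toScheme ⟶ V := IsOpenImmersion.lift V.ι (W.ι ≫ Sigma.desc f) hr
  have hg : g ≫ V.ι = W.ι ≫ Sigma.desc f := IsOpenImmersion.lift_fac _ _ _
  have hflat : Flat g := by
    have : Flat (g ≫ V.ι) := by rw [hg]; infer_instance
    exact MorphismProperty.of_postcomp (W := @Flat) (W' := @IsOpenImmersion) g V.ι inferInstance this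
  have hqc : QuasiCompact g := inferInstance
  have hsurj : Surjective g := by
    constructor
    intro y
    have : y.1 ∈ (V : Set S) := y.2
    rw [← hWV] at this
    obtain ⟨x, hx, hxy⟩ := this
    refine ⟨⟨x, hx⟩, ?_⟩
    apply V.ι.isOpenEmbedding.injective
    rw [← Scheme.Hom.comp_apply, hg, Scheme.Hom.comp_apply]
    exact hxy
  have hopen : IsOpen (V.ι ⁻¹' O) := by
    rw [← (Flat.isQuotientMap_of_surjective g).isOpen_preimage]
    have : g ⁻¹' (V.ι ⁻¹' O) = W.ι ⁻¹' (Sigma.desc f ⁻¹' O) := by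
      ext x
      change V.ι (g x) ∈ O ↔ Sigma.desc f (W.ι x) ∈ O
      rw [← Scheme.Hom.comp_apply, ← Scheme.Hom.comp_apply, hg]
    rw [this]
    exact h3.preimage W.ι.continuous
  refine Filter.mem_of_superset ((V.ι.isOpenEmbedding.isOpenMap _ hopen).mem_nhds ⟨⟨s, hsV⟩, hs, rfl⟩) ?_
  rintro _ ⟨x, hx, rfl⟩
  exact hx

variable {Q : ∀ ⦃T : Scheme.{u}⦄, (T ⟶ S) → Prop} (hQ : IsFpqcLocal Q)

include hQ

/-- An fpqc local predicate can be tested after extension of the residue field. -/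
theorem res_iff {T : Scheme.{u}} (h : T ⟶ S) (t : T) :
    Q (T.fromSpecResidueField t ≫ h) ↔ Q (S.fromSpecResidueField (h t)) := by
  rw [← Scheme.Hom.SpecMap_residueFieldMap_fromSpecResidueField]
  refine ⟨fun hh => ?_, hQ.comp _ _⟩
  let g := Spec.map (h.residueFieldMap t)
  have h2 : Flat g := by
    rw [Flat.SpecMap_iff]
    algebraize [(h.residueFieldMap t).hom]
    change Module.Flat _ _
    infer_instance
  have h3 : Surjective g := ⟨fun x => ⟨default, Subsingleton.elim _ _⟩⟩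
  refine hQ.loc _ _ g.singleton_mem_fpqcPrecoverage ?_
  rintro _ _ ⟨⟩
  exact hh

/-- **fpqc descent of open subschemes**, in terms of predicates. -/
theorem exists_open {ι : Type u} {X : ι → Scheme.{u}} (f : ∀ i, X i ⟶ S)
    (hf : Presieve.ofArrows X f ∈ Scheme.fpqcPrecoverage S)
    (H : ∀ i, ∃ (Z : Scheme.{u}) (z : Z ⟶ X i), IsOpenImmersion z ∧
      ∀ ⦃T : Scheme.{u}⦄ (x : T ⟶ X i), Q (x ≫ f i) ↔ ∃ v : T ⟶ Z, v ≫ z = x) :
    ∃ O : S.Opens, ∀ ⦃T : Scheme.{u}⦄ (h : T ⟶ S), Q h ↔ Set.range h ⊆ O := by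
  choose Z z hz H using H
  -- for an open subscheme, factorization is set-theoretic
  have hfac : ∀ i ⦃T : Scheme.{u}⦄ (x : T ⟶ X i), Q (x ≫ f i) ↔ Set.range x ⊆ Set.range (z i) := by
    intro i T x
    rw [H]
    constructor
    · rintro ⟨v, rfl⟩
      rintro _ ⟨t, rfl⟩
      exact ⟨v t, (Scheme.Hom.comp_apply _ _ _).symm⟩
    · intro h
      exact ⟨IsOpenImmersion.lift (z i) x h, IsOpenImmersion.lift_fac _ _ _⟩
  let O : Set S := {s | Q (S.fromSpecResidueField s)}
  have hO : ∀ i, f i ⁻¹' O = Set.range (z i) := by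
    intro i
    ext x
    have h1 : Q ((X i).fromSpecResidueField x ≫ f i) ↔ x ∈ Set.range (z i) := by
      rw [hfac, Scheme.range_fromSpecResidueField, Set.singleton_subset_iff]
    rw [← h1, res_iff hQ]
    rfl
  refine ⟨⟨O, isOpen_of_fpqc f hf O fun i => by
    rw [hO]; exact (z i).isOpenEmbedding.isOpen_range⟩, fun T h => ⟨?_, ?_⟩⟩
  · rintro hh _ ⟨t, rfl⟩
    exact (res_iff hQ h t).1 (hQ.comp _ _ hh)
  · intro hh
    refine hQ.loc h _ (Scheme.fpqcPrecoverage.pullbackArrows_mem h hf) ?_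
    rintro _ _ ⟨_, _, ⟨i⟩⟩
    rw [← pullback.condition, hfac]
    rintro _ ⟨y, rfl⟩
    rw [← hO]
    change f i (pullback.fst (f i) h y) ∈ O
    rw [← Scheme.Hom.comp_apply, pullback.condition, Scheme.Hom.comp_apply]
    exact hh ⟨_, rfl⟩

end K185.SubDesc
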