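import Groth.Agent.GrpQ.K185.GraphMain
import Groth.Agent.GrpQ.K185.OpenDesc
import Groth.Agent.S0079

/-!
# Sections of `U/R` and stable subschemes: the theorem for closed and for open graphs
-/

set_option autoImplicit false
set_option backward.isDefEq.respectTransparency.types false
universe u
open CategoryTheory CategoryTheory.Limits AlgebraicGeometry Opposite MonoidalCategory CartesianMonoidalCategory
open K185.QuotBasic K185.IsQuot K185.Cover K185.SubDesc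
open scoped K185

namespace K185.GraphSub

theorem eff_isClosedImmersion : Eff @IsClosedImmersion :=
  fun hQ _ _ f hf H => exists_closed hQ f hf H

theorem eff_isOpenImmersion : Eff @IsOpenImmersion := by
  intro S Q hQ ι X f hf H
  obtain ⟨O, h⟩ := exists_open hQ f hf H
  refine ⟨O, O.ι, inferInstance, fun T x => (h x).trans ⟨fun hx => ?_, ?_⟩⟩
  · have hx' : Set.range x ⊆ Set.range O.ι := by rwa [Scheme.Opens.range_ι]
    exact ⟨IsOpenImmersion.lift O.ι x hx', IsOpenImmersion.lift_fac _ _ _⟩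
  · rintro ⟨v, rfl⟩ _ ⟨t, rfl⟩
    rw [Scheme.Hom.comp_apply]
    exact (v t).2

variable {S : Scheme.{u}} {R U : Over S} (s t : R ⟶ U) [IsEquivalenceRelation s t]

theorem main (N : MorphismProperty Scheme.{u}) [N.IsStableUnderBaseChange] (hN : Eff N)
    (hmono : ∀ {X Y : Scheme.{u}} (f : X ⟶ Y), N f → Mono f)
    [Flat s.left] [Surjective s.left] [QuasiCompact s.left]
    (hc : N (lift t s).left)
    (T : Over S) (σ : QuotSh.rep Scheme.fpqcPrecoverage T ⟶ QuotSh.quot Scheme.fpqcPrecoverage s t) :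
    (∃ (Z : Over S) (i : Z ⟶ U ⊗ T), N i.left ∧
      (∀ (T' : Over S) (r : T' ⟶ R ⊗ T),
        (∃ z : T' ⟶ Z, z ≫ i = r ≫ (s ▷ T)) ↔ (∃ z : T' ⟶ Z, z ≫ i = r ≫ (t ▷ T))) ∧
      Flat (i ≫ snd U T).left ∧ Surjective (i ≫ snd U T).left ∧
      QuasiCompact (i ≫ snd U T).left ∧
      (∀ (T' : Over S) (z₁ z₂ : T' ⟶ Z), z₁ ≫ i ≫ snd U T = z₂ ≫ i ≫ snd U T →
        ∃ r : T' ⟶ R, r ≫ s = z₁ ≫ i ≫ fst U T ∧ r ≫ t = z₂ ≫ i ≫ fst U T) ∧
      QuotSh.repMap Scheme.fpqcPrecoverage (i ≫ fst U T) ≫ QuotSh.quotπ Scheme.fpqcPrecoverage s t =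
        QuotSh.repMap Scheme.fpqcPrecoverage (i ≫ snd U T) ≫ σ) ∧
    (∀ (Z Z' : Over S) (i : Z ⟶ U ⊗ T) (i' : Z' ⟶ U ⊗ T),
      N i.left → N i'.left →
      (∀ (T' : Over S) (r : T' ⟶ R ⊗ T),
        (∃ z : T' ⟶ Z, z ≫ i = r ≫ (s ▷ T)) ↔ (∃ z : T' ⟶ Z, z ≫ i = r ≫ (t ▷ T))) →
      (∀ (T' : Over S) (r : T' ⟶ R ⊗ T),
        (∃ z : T' ⟶ Z', z ≫ i' = r ≫ (s ▷ T)) ↔ (∃ z : T' ⟶ Z', z ≫ i' = r ≫ (t ▷ T))) →
      Flat (i ≫ snd U T).left → Surjective (i ≫ snd U T).left →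
      QuasiCompact (i ≫ snd U T).left →
      Flat (i' ≫ snd U T).left → Surjective (i' ≫ snd U T).left →
      QuasiCompact (i' ≫ snd U T).left →
      (∀ (T' : Over S) (z₁ z₂ : T' ⟶ Z), z₁ ≫ i ≫ snd U T = z₂ ≫ i ≫ snd U T →
        ∃ r : T' ⟶ R, r ≫ s = z₁ ≫ i ≫ fst U T ∧ r ≫ t = z₂ ≫ i ≫ fst U T) →
      (∀ (T' : Over S) (z₁ z₂ : T' ⟶ Z'), z₁ ≫ i' ≫ snd U T = z₂ ≫ i' ≫ snd U T →
        ∃ r : T' ⟶ R, r ≫ s = z₁ ≫ i' ≫ fst U T ∧ r ≫ t = z₂ ≫ i' ≫ fst U T) →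
      QuotSh.repMap Scheme.fpqcPrecoverage (i ≫ fst U T) ≫ QuotSh.quotπ Scheme.fpqcPrecoverage s t =
        QuotSh.repMap Scheme.fpqcPrecoverage (i ≫ snd U T) ≫ σ →
      QuotSh.repMap Scheme.fpqcPrecoverage (i' ≫ fst U T) ≫ QuotSh.quotπ Scheme.fpqcPrecoverage s t =
        QuotSh.repMap Scheme.fpqcPrecoverage (i' ≫ snd U T) ≫ σ →
      ∃ e : Z ≅ Z', e.hom ≫ i' = i) := by
  obtain ⟨c, rfl⟩ := (homEquiv Scheme.fpqcPrecoverage).symm.surjective σ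
  have d1 := QuotProp.flat_descends.{u}
  have d2 := Groth.Agent.S0079.result.{u}
  refine ⟨?_, ?_⟩
  · obtain ⟨Z, i, hi, h⟩ := exists_sub s t c hN hc
    have := hmono _ hi
    have : Mono i := Over.mono_of_mono_left i
    have h : IsSub s t c i := h
    exact ⟨Z, i, hi, fun T' r => h.stable r, h.prop @Flat inferInstance, h.prop @Surjective inferInstance,
      h.prop @QuasiCompact inferInstance, fun T' z₁ z₂ hz => h.rel z₁ z₂ hz, h.fac⟩
  · intro Z Z' i i' hi hi' hst hst' h1 h2 h3 h1' h2' h3' _ _ hf hf'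
    have := hmono _ hi
    have : Mono i := Over.mono_of_mono_left i
    have := hmono _ hi'
    have : Mono i' := Over.mono_of_mono_left i'
    exact (isSub_of hst h1 h2 h3 (adm_of_fac hf)).iso (isSub_of hst' h1' h2' h3' (adm_of_fac hf'))

end K185.GraphSub
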