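import Groth.Agent.GrpQ.K185.QuotBasic
import Mathlib.CategoryTheory.Limits.Shapes.KernelPair

/-!
# Criteria for `QuotSh.IsQuotient`

* `isIso_quotDesc_iff` : the comparison `U/R ⟶ h_M` is an isomorphism iff it is injective on points of `U` and
  points of `M` lift locally.
* `isQuotient_iff` : for an equivalence relation and a subcanonical topology, `IsQuotient K s t q` iff `(s, t)` is the
  kernel pair of `q` and `q` is locally surjective.
-/

set_option autoImplicit false
universe u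
open CategoryTheory CategoryTheory.Limits AlgebraicGeometry Opposite
open K185.QuotBasic

namespace K185.IsQuot

variable (K : Precoverage Scheme.{u}) {S : Scheme.{u}} {R U M : Over S} {s t : R ⟶ U} {q : U ⟶ M}

/-- `q` is `K`-locally surjective: locally on `M` it has sections. -/
def LocSurj (q : U ⟶ M) : Prop :=
  ∃ C ∈ QuotSh.J K S M, ∀ ⦃T : Over S⦄ (f : T ⟶ M), C f → ∃ x : T ⟶ U, x ≫ q = f

theorem LocSurj.lift {K : Precoverage Scheme.{u}} (hq : LocSurj K q) {T : Over S} (m : T ⟶ M) :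
    ∃ C ∈ QuotSh.J K S T, ∀ ⦃T' : Over S⦄ (f : T' ⟶ T), C f → ∃ x : T' ⟶ U, x ≫ q = f ≫ m := by
  obtain ⟨C, hC, h⟩ := hq
  exact ⟨C.pullback m, (QuotSh.J K S).pullback_stable m hC, fun T' f hf => h _ hf⟩

theorem quotπ_quotDesc (w : s ≫ q = t ≫ q) :
    QuotSh.quotπ K s t ≫ QuotSh.quotDesc K q w = QuotSh.repMap K q := coequalizer.π_desc _ _

theorem quotDesc_quotPt (w : s ≫ q = t ≫ q) {T : Over S} (x : T ⟶ U) :
    (QuotSh.quotDesc K q w).hom.app (op T) (quotPt K s t x) = pt K (x ≫ q) := by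
  have h := congrArg (fun f => f.hom.app (op T) (pt K x)) (quotπ_quotDesc K w)
  exact h.trans (repMap_pt K q x)

/-- `U/R ⟶ h_M` is an isomorphism iff it is injective on points of `U` and points of `M` lift locally. -/
theorem isIso_quotDesc_iff (w : s ≫ q = t ≫ q) :
    IsIso (QuotSh.quotDesc K q w) ↔
      (∀ (T : Over S) (x y : T ⟶ U), pt K (x ≫ q) = pt K (y ≫ q) →
        quotPt K s t x = quotPt K s t y) ∧
      (∀ (T : Over S) (m : T ⟶ M), ∃ C ∈ QuotSh.J K S T, ∀ ⦃T' : Over S⦄ (f : T' ⟶ T), C f →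
        ∃ x : T' ⟶ U, pt K (x ≫ q) = pt K (f ≫ m)) := by
  constructor
  · intro hiso
    obtain ⟨h1, h2⟩ := (Sheaf.isLocallyBijective_iff_isIso (QuotSh.quotDesc K q w)).2 hiso
    rw [Sheaf.isLocallyInjective_iff_injective] at h1
    constructor
    · intro T x y hxy
      apply h1 (op T)
      rw [quotDesc_quotPt, quotDesc_quotPt, hxy]
    · intro T m
      have h3 : Sheaf.IsLocallySurjective (QuotSh.repMap K q) := by
        rw [← quotπ_quotDesc K w]
        have : Sheaf.IsLocallySurjective (QuotSh.quotπ K s t) :=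
          (Sheaf.isLocallySurjective_iff_epi' _ _).mpr inferInstance
        have : Epi (QuotSh.quotπ K s t ≫ QuotSh.quotDesc K q w) := inferInstance
        exact (Sheaf.isLocallySurjective_iff_epi' _ _).mpr this
      have h4 := Presheaf.imageSieve_mem (QuotSh.J K S) (QuotSh.repMap K q).hom (pt K m)
      refine ⟨Sieve.bind (Presheaf.imageSieve (QuotSh.repMap K q).hom (pt K m)).arrows
        fun T' f hf => (exists_pt K hf.choose).choose,
        (QuotSh.J K S).bind_covering h4 fun T' f hf => (exists_pt K hf.choose).choose_spec.1, ?_⟩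
      rintro T'' f ⟨T', g, f', hf', hg, rfl⟩
      obtain ⟨x, hx⟩ := (exists_pt K hf'.choose).choose_spec.2 g hg
      refine ⟨x, ?_⟩
      rw [← repMap_pt, ← hx, NatTrans.naturality_apply, hf'.choose_spec, ← Functor.map_comp_apply,
        ← op_comp, map_pt]
  · rintro ⟨h1, h2⟩
    refine (Sheaf.isLocallyBijective_iff_isIso (QuotSh.quotDesc K q w)).1 ⟨?_, ?_⟩
    · rw [Sheaf.isLocallyInjective_iff_injective]
      rintro ⟨T⟩ σ τ hστ
      obtain ⟨C₁, hC₁, l₁⟩ := exists_lift K s t σ
      obtain ⟨C₂, hC₂, l₂⟩ := exists_lift K s t τ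
      refine (((isSheaf_iff_isSheaf_of_type _ _).1 (QuotSh.quot K s t).property).isSeparated
        (C₁ ⊓ C₂) ((QuotSh.J K S).intersection_covering hC₁ hC₂)).ext ?_
      rintro T' f ⟨hf₁, hf₂⟩
      obtain ⟨x, hx⟩ := l₁ f hf₁
      obtain ⟨y, hy⟩ := l₂ f hf₂
      rw [hx, hy]
      apply h1
      rw [← quotDesc_quotPt K w, ← quotDesc_quotPt K w, ← hx, ← hy, NatTrans.naturality_apply,
        NatTrans.naturality_apply, hστ]
    · constructor
      rintro T m
      obtain ⟨C, hC, l⟩ := exists_pt K m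
      have key : ∀ ⦃T' : Over S⦄ (f : T' ⟶ T) (hf : C f), ∃ C' ∈ QuotSh.J K S T',
          ∀ ⦃T'' : Over S⦄ (g : T'' ⟶ T'), C' g →
            ∃ x : T'' ⟶ U, pt K (x ≫ q) = (QuotSh.rep K M).obj.map (g ≫ f).op m := by
        intro T' f hf
        obtain ⟨y, hy⟩ := l f hf
        obtain ⟨C', hC', l'⟩ := h2 T' y
        refine ⟨C', hC', fun T'' g hg => ?_⟩
        obtain ⟨x, hx⟩ := l' g hg
        refine ⟨x, ?_⟩
        rw [hx, op_comp, Functor.map_comp_apply, hy, map_pt]
      choose C' hC' l' using key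
      refine (QuotSh.J K S).superset_covering ?_ ((QuotSh.J K S).bind_covering hC
        fun T' f hf => hC' f hf)
      rintro T'' f ⟨T', g, f', hf', hg, rfl⟩
      obtain ⟨x, hx⟩ := l' f' hf' g hg
      refine ⟨quotPt K s t x, ?_⟩
      change (QuotSh.quotDesc K q w).hom.app _ _ = _
      rw [quotDesc_quotPt, hx]

/-- For an equivalence relation and a subcanonical topology, `M` is the quotient `U/R` through `q` iff
`(s, t)` is the kernel pair of `q` and `q` has sections locally on `M`. -/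
theorem isQuotient_iff [IsEquivalenceRelation s t] [(QuotSh.J K S).Subcanonical] :
    QuotSh.IsQuotient K s t q ↔ IsKernelPair q s t ∧ LocSurj K q := by
  constructor
  · rintro ⟨w, hw⟩
    obtain ⟨h1, h2⟩ := (isIso_quotDesc_iff K w).1 hw
    refine ⟨?_, ?_⟩
    · refine ⟨⟨w⟩, ⟨PullbackCone.IsLimit.mk w
        (fun c => ((quotPt_eq_iff_rel K s t c.fst c.snd).1
          (h1 _ _ _ (by rw [c.condition]))).choose) ?_ ?_ ?_⟩⟩
      · intro c
        exact ((quotPt_eq_iff_rel K s t c.fst c.snd).1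
          (h1 _ _ _ (by rw [c.condition]))).choose_spec.1
      · intro c
        exact ((quotPt_eq_iff_rel K s t c.fst c.snd).1
          (h1 _ _ _ (by rw [c.condition]))).choose_spec.2
      · intro c m hm₁ hm₂
        have hc := ((quotPt_eq_iff_rel K s t c.fst c.snd).1
          (h1 _ _ _ (by rw [c.condition]))).choose_spec
        exact rel_unique s t (hm₁.trans hc.1.symm) (hm₂.trans hc.2.symm)
    · obtain ⟨C, hC, h⟩ := h2 M (𝟙 M)
      refine ⟨C, hC, fun T f hf => ?_⟩
      obtain ⟨x, hx⟩ := h f hf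
      refine ⟨x, ?_⟩
      rw [Category.comp_id] at hx
      exact pt_injective K hx
  · rintro ⟨h1, h2⟩
    refine ⟨h1.w, ?_⟩
    rw [isIso_quotDesc_iff]
    refine ⟨fun T x y hxy => ?_, fun T m => ?_⟩
    · have := pt_injective K hxy
      exact quotPt_eq_of_rel K s t ⟨h1.lift x y this, h1.lift_fst _ _ _, h1.lift_snd _ _ _⟩
    · obtain ⟨C, hC, h⟩ := h2.lift m
      refine ⟨C, hC, fun T' f hf => ?_⟩
      obtain ⟨x, hx⟩ := h f hf
      exact ⟨x, by rw [hx]⟩

end K185.IsQuot
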