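import Groth.Agent.GrpQ.K185.QSGen

/-!
# Local quasi-sections in terms of the restriction of `s` and `t` over an invariant open
-/

set_option autoImplicit false
set_option backward.isDefEq.respectTransparency.types false
universe u
open CategoryTheory CategoryTheory.Limits AlgebraicGeometry TopologicalSpace
open Groth.Agent Groth.Agent.GrpQ.H768.LocQS Groth.Agent.Grpsch.Restrict

namespace K185.QSGen

variable {S : Scheme.{u}} (G : Grpd.GroupoidScheme S)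

/-- The arrows of the restriction of `G` to an invariant open `W` are the open `s⁻¹(W)`. -/
theorem exists_iso (W : G.U.Opens) (hW : G.s ⁻¹ᵁ W = G.t ⁻¹ᵁ W) :
    ∃ ε : arrows G W.ι ≅ (G.s ⁻¹ᵁ W : Scheme.{u}), ε.hom ≫ (G.s ⁻¹ᵁ W).ι = toR G W.ι ∧
      ε.hom ≫ (G.s ∣_ W) = src G W.ι ∧ ε.hom ≫ G.t.resLE W (G.s ⁻¹ᵁ W) hW.le = tgt G W.ι := by
  have h1 := (Groth.Agent.GrpQ.H766.AffineCase.isPullback_src G W hW).flip
  have h2 := (isPullback_morphismRestrict G.s W).flip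
  let ε := h1.isoIsPullback _ _ h2
  have e1 : ε.hom ≫ (G.s ⁻¹ᵁ W).ι = toR G W.ι := IsPullback.isoIsPullback_hom_fst _ _ h1 h2
  have e2 : ε.hom ≫ (G.s ∣_ W) = src G W.ι := IsPullback.isoIsPullback_hom_snd _ _ h1 h2
  refine ⟨ε, e1, e2, ?_⟩
  rw [← cancel_mono W.ι, Category.assoc, Scheme.Hom.resLE_comp_ι, ← Category.assoc, e1, toR_t]

theorem prop_iff (P : MorphismProperty Scheme.{u}) [P.RespectsIso] (W : G.U.Opens)
    (hW : G.s ⁻¹ᵁ W = G.t ⁻¹ᵁ W) {Z : Scheme.{u}} (u : Z ⟶ (W : Scheme.{u})) :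
    P (pullback.fst (G.t.resLE W (G.s ⁻¹ᵁ W) hW.le) u ≫ (G.s ∣_ W)) ↔
      P (pullback.fst (tgt G W.ι) u ≫ src G W.ι) := by
  obtain ⟨ε, e1, e2, e3⟩ := exists_iso G W hW
  let m : pullback (tgt G W.ι) u ⟶ pullback (G.t.resLE W (G.s ⁻¹ᵁ W) hW.le) u :=
    pullback.map _ _ _ _ ε.hom (𝟙 _) (𝟙 _) (by rw [Category.comp_id, e3]) (by simp)
  have : IsIso m := inferInstance
  symm
  refine P.arrow_mk_iso_iff (Arrow.isoMk (asIso m) (Iso.refl _) ?_)
  simp only [Arrow.mk_left, Arrow.mk_right, Arrow.mk_hom, Iso.refl_hom, Category.comp_id, asIso_hom]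
  rw [← e2, ← Category.assoc, ← Category.assoc]
  congr 1
  exact pullback.lift_fst _ _ _

theorem main [IsLocallyNoetherian S] [IsProper G.s] [Flat G.s] (hU : RelProj.IsQuasiProjective G.pU)
    [LocallyQuasiFinite G.j] (z : G.U) :
    ∃ (W : G.U.Opens) (hW : G.t ⁻¹ᵁ W = G.s ⁻¹ᵁ W), z ∈ W ∧
      ∃ (U' : Scheme.{u}) (u : U' ⟶ (W : Scheme.{u})), IsImmersion u ∧
        Mor2.IsFinLocFree (pullback.fst (G.t.resLE W (G.s ⁻¹ᵁ W) hW.ge) u ≫ (G.s ∣_ W)) ∧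
        Surjective (pullback.fst (G.t.resLE W (G.s ⁻¹ᵁ W) hW.ge) u ≫ (G.s ∣_ W)) ∧
        ∀ E : Set U', (∀ x ∈ E, ∀ y ∈ E, ∃ r : G.R,
            G.t.base r = (u ≫ W.ι).base x ∧ G.s.base r = (u ≫ W.ι).base y) →
          ∃ V : U'.Opens, IsAffineOpen V ∧ E ⊆ (V : Set U') := by
  obtain ⟨W, hW, Z, u, hz, hu, ⟨h1, h2, h3⟩, h4, h5⟩ := locQSAt G hU z
  refine ⟨W, hW.symm, hz, Z, u, hu, ⟨?_, ?_, ?_⟩, ?_, fun E hE => h5 E fun x hx y hy => ?_⟩
  · exact (prop_iff G @IsFinite W hW u).2 h1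
  · exact (prop_iff G @Flat W hW u).2 h2
  · exact (prop_iff G @LocallyOfFinitePresentation W hW u).2 h3
  · exact (prop_iff G @Surjective W hW u).2 h4
  · obtain ⟨r, hr1, hr2⟩ := hE x hx y hy
    obtain ⟨ε, e1, e2, e3⟩ := exists_iso G W hW
    have hrW : r ∈ G.s ⁻¹ᵁ W := by
      change G.s r ∈ W
      have : G.s r = W.ι (u y) := by rw [← Scheme.Hom.comp_apply]; exact hr2
      rw [this]
      exact (u y).2
    obtain ⟨r', hr'⟩ := ε.hom.surjective ⟨r, hrW⟩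
    have h6 : toR G W.ι r' = r := by
      rw [← e1, Scheme.Hom.comp_apply, hr']
      rfl
    refine ⟨r', ?_, ?_⟩
    · apply W.ι.isOpenEmbedding.injective
      change W.ι (tgt G W.ι r') = W.ι (u x)
      rw [← Scheme.Hom.comp_apply, ← toR_t, Scheme.Hom.comp_apply, h6, ← Scheme.Hom.comp_apply]
      exact hr1
    · apply W.ι.isOpenEmbedding.injective
      change W.ι (src G W.ι r') = W.ι (u y)
      rw [← Scheme.Hom.comp_apply, ← toR_s, Scheme.Hom.comp_apply, h6, ← Scheme.Hom.comp_apply]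
      exact hr2

end K185.QSGen
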