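import Groth.Agent.GrpQ.H768.LocQSGen
import Groth.Agent.S9691
import Groth.Prelude.Def_RelProj

/-!
# Local quasi-sections of a groupoid with quasi-projective objects

`locQSAt` : a groupoid scheme over a locally Noetherian base with `U` quasi-projective, `s` proper and flat and
`j` quasi-finite has a local quasi-section at every point.
-/

set_option autoImplicit false
universe u
open CategoryTheory CategoryTheory.Limits AlgebraicGeometry TopologicalSpace
open Groth.Agent Groth.Agent.GrpQ.H768.LocQS Groth.Agent.GrpQ.H768.LocQSGen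

namespace K185.QSGen

variable {S : Scheme.{u}} (G : Grpd.GroupoidScheme S)

theorem exists_isQS [IsLocallyNoetherian S] [IsProper G.s] [Flat G.s] (hU : RelProj.IsQuasiProjective G.pU)
    [LocallyQuasiFinite G.j] (x : G.U) :
    ∃ (W : G.U.Opens) (Z : Scheme.{u}) (z : Z ⟶ G.U), x ∈ W ∧ IsImmersion z ∧ IsQS G z W ∧
      ∀ E : Set G.U, E.Finite → E ⊆ W → ∃ A : G.U.Opens, IsAffineOpen A ∧ A ≤ W ∧ E ⊆ A := by
  obtain ⟨hlft, hqc, L₀, hL₀⟩ := hU
  have hsep : IsSeparated G.pU := Groth.Agent.S9691.result G.pU L₀ hL₀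
  obtain ⟨S0, hS0, hxS0, -⟩ := exists_isAffineOpen_mem_and_subset (U := (⊤ : S.Opens)) (x := G.pU x) trivial
  have hS0' : IsAffine (S0 : Scheme.{u}) := hS0
  obtain ⟨O, hOeq, L, hL⟩ : ∃ (O : G.U.Opens) (_ : O = G.pU ⁻¹ᵁ S0) (L : (O : Scheme.{u}).Modules),
      CohB1.IsAmple L := ⟨_, rfl, _, hL₀.2 ⟨S0, hS0⟩⟩
  have hxO : x ∈ O := by rw [hOeq]; exact hxS0
  have hO : G.s ⁻¹ᵁ O = G.t ⁻¹ᵁ O := by
    rw [hOeq, ← Scheme.Hom.comp_preimage, ← Scheme.Hom.comp_preimage, G.s_over, G.t_over]
  -- the projection to `S0`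
  obtain ⟨π, hπ, hπsq⟩ : ∃ π : (O : Scheme.{u}) ⟶ (S0 : Scheme.{u}), π ≫ S0.ι = O.ι ≫ G.pU ∧
      IsPullback O.ι π G.pU S0.ι := by
    clear hL
    subst hOeq
    exact ⟨G.pU ∣_ S0, morphismRestrict_ι _ _, (isPullback_morphismRestrict G.pU S0).flip⟩
  have hπsep : IsSeparated π := MorphismProperty.of_isPullback (P := @IsSeparated) hπsq hsep
  have hπqc : QuasiCompact π := MorphismProperty.of_isPullback (P := @QuasiCompact) hπsq hqc
  have hπlft : LocallyOfFiniteType π := MorphismProperty.of_isPullback (P := @LocallyOfFiniteType) hπsq hlft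
  have hcb' : Grpsch.Restrict.tgt G O.ι ≫ π = Grpsch.Restrict.src G O.ι ≫ π := by
    rw [← cancel_mono S0.ι, Category.assoc, Category.assoc, hπ]
    exact (Grpsch.Restrict.restrict G O.ι).t_over.trans (Grpsch.Restrict.restrict G O.ι).s_over.symm
  have hcb : (Grpsch.Restrict.restrict G O.ι).t ≫ π = (Grpsch.Restrict.restrict G O.ι).s ≫ π := hcb'
  -- Noetherian
  have hS0N : IsNoetherian (S0 : Scheme.{u}) := { }
  have hOc : CompactSpace (O : Scheme.{u}) := QuasiCompact.compactSpace_of_compactSpace π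
  have hON' : IsLocallyNoetherian (O : Scheme.{u}) := LocallyOfFiniteType.isLocallyNoetherian π
  have hON : IsNoetherian (O : Scheme.{u}) := { }
  -- j is affine
  have hj : IsAffineHom (pullback.lift (Grpsch.Restrict.tgt G O.ι) (Grpsch.Restrict.src G O.ι) hcb') := by
    obtain ⟨j0, hj0⟩ : ∃ j0, j0 = pullback.lift (Grpsch.Restrict.tgt G O.ι) (Grpsch.Restrict.src G O.ι) hcb' :=
      ⟨_, rfl⟩
    have hf : j0 ≫ pullback.fst π π = Grpsch.Restrict.tgt G O.ι := by rw [hj0, pullback.lift_fst]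
    have hs : j0 ≫ pullback.snd π π = Grpsch.Restrict.src G O.ι := by rw [hj0, pullback.lift_snd]
    rw [← hj0]
    have hsp : IsProper (Grpsch.Restrict.src G O.ι) :=
      MorphismProperty.of_isPullback (Groth.Agent.GrpQ.H766.AffineCase.isPullback_src G O hO).flip inferInstance
    have h1 : IsProper (j0 ≫ pullback.snd π π) := by rw [hs]; exact hsp
    have h2 : IsProper j0 := IsProper.of_comp _ (pullback.snd π π)
    have h3 : LocallyQuasiFinite j0 := by
      obtain ⟨m, hm1, hm2⟩ : ∃ m : pullback π π ⟶ pullback G.pU G.pU,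
          m ≫ pullback.fst _ _ = pullback.fst _ _ ≫ O.ι ∧ m ≫ pullback.snd _ _ = pullback.snd _ _ ≫ O.ι :=
        ⟨pullback.lift (pullback.fst _ _ ≫ O.ι) (pullback.snd _ _ ≫ O.ι) (by
          rw [Category.assoc, Category.assoc, ← hπ, pullback.condition_assoc]),
          pullback.lift_fst _ _ _, pullback.lift_snd _ _ _⟩
      have h4 : j0 ≫ m = Grpsch.Restrict.toR G O.ι ≫ G.j := by
        apply pullback.hom_ext
        · rw [Category.assoc, hm1, reassoc_of% hf, Category.assoc, Grpd.GroupoidScheme.j,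
            pullback.lift_fst, Grpsch.Restrict.toR_t]
        · rw [Category.assoc, hm2, reassoc_of% hs, Category.assoc, Grpd.GroupoidScheme.j,
            pullback.lift_snd, Grpsch.Restrict.toR_s]
      have h5 : IsOpenImmersion (Grpsch.Restrict.toR G O.ι) :=
        MorphismProperty.of_isPullback (P := @IsOpenImmersion)
          (Groth.Agent.GrpQ.H766.AffineCase.isPullback_src G O hO) inferInstance
      have h6 : LocallyQuasiFinite (j0 ≫ m) := by
        rw [h4]; infer_instance
      exact LocallyQuasiFinite.of_comp _ m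
    have h7 : IsFinite j0 := IsFinite.of_isProper_of_locallyQuasiFinite _
    infer_instance
  exact exists_isQS_of_affine G O hO π hcb hj hON hL x hxO


theorem locQSAt [IsLocallyNoetherian S] [IsProper G.s] [Flat G.s] (hU : RelProj.IsQuasiProjective G.pU)
    [LocallyQuasiFinite G.j] (x : G.U) : LocQSAt G x := by
  obtain ⟨W, Z, z, hxW, -, hQS, hA⟩ := exists_isQS G hU x
  exact hQS.locQSAt x hxW fun E hE _ hEW => hA E hE hEW

end K185.QSGen
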