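import Mathlib.AlgebraicGeometry.Morphisms.QuasiCompact

/-!
# Open surjective morphisms are quasi-compact covers
-/

set_option autoImplicit false
universe u
open CategoryTheory AlgebraicGeometry

namespace K185.QcCover

theorem exists_of_isOpenMap {X S : Scheme.{u}} (f : X ⟶ S) (hf : IsOpenMap f) (hs : Function.Surjective f)
    (V : S.Opens) (hV : IsCompact (V : Set S)) :
    ∃ W : X.Opens, IsCompact (W : Set X) ∧ f.base '' (W : Set X) = (V : Set S) := by
  obtain ⟨t, ht⟩ := hV.elim_finite_subcover (fun U : {U : X.affineOpens // (U : Set X) ⊆ f ⁻¹' V} =>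
      f '' (U.1.1 : Set X)) (fun U => hf _ U.1.1.isOpen) (by
    intro v hv
    obtain ⟨x, rfl⟩ := hs v
    obtain ⟨_, ⟨U, hU, rfl⟩, hx, hUV⟩ := X.isBasis_affineOpens.exists_subset_of_mem_open
      (show x ∈ f ⁻¹' V from hv) (V.isOpen.preimage f.continuous)
    exact Set.mem_iUnion.2 ⟨⟨⟨U, hU⟩, hUV⟩, x, hx, rfl⟩)
  refine ⟨⨆ U ∈ t, U.1.1, ?_, ?_⟩
  · simp only [TopologicalSpace.Opens.coe_iSup]
    exact t.isCompact_biUnion fun U _ => U.1.2.isCompact
  · apply subset_antisymm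
    · rintro _ ⟨x, hx, rfl⟩
      simp only [TopologicalSpace.Opens.coe_iSup, Set.mem_iUnion] at hx
      obtain ⟨U, -, hx⟩ := hx
      exact U.2 hx
    · intro v hv
      obtain ⟨U, hU, x, hx, rfl⟩ := Set.mem_iUnion₂.1 (ht hv)
      refine ⟨x, ?_, rfl⟩
      simp only [TopologicalSpace.Opens.coe_iSup, Set.mem_iUnion]
      exact ⟨U, hU, hx⟩

end K185.QcCover
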