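import Groth.Prelude.Def_QuotSh
import Mathlib.CategoryTheory.Sites.EpiMono
import Mathlib.CategoryTheory.EquivalenceRelation

/-!
# Points of the sheaves `h_V` and `U/R` of `QuotSh`

* `pt K x` : the section of `h_V = QuotSh.rep K V` over `T` given by `x : T ⟶ V`; `homEquiv` (Yoneda).
* `quotPt K s t x` : the section of `U/R` over `T` given by `x : T ⟶ U`.
* `quotPt_eq_iff` : two points of `U` give the same section iff they are locally `EqvGen R`-related.
* `exists_lift` : every section of `U/R` lifts locally to `U`.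
-/

set_option autoImplicit false
universe u
open CategoryTheory CategoryTheory.Limits AlgebraicGeometry Opposite

namespace K185.QuotBasic

variable (K : Precoverage Scheme.{u}) {S : Scheme.{u}}

/-- the presheaf of points of `V`, one universe up -/
abbrev pre (V : Over S) : (Over S)ᵒᵖ ⥤ Type (u + 1) := yoneda.obj V ⋙ uliftFunctor.{u + 1, u}

/-- the unit of sheafification -/
noncomputable abbrev unit (V : Over S) : pre V ⟶ (QuotSh.rep K V).obj :=
  toSheafify (QuotSh.J K S) (pre V)

/-- The section of `h_V` over `T` given by `x : T ⟶ V`. -/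
noncomputable def pt {T V : Over S} (x : T ⟶ V) : (QuotSh.rep K V).obj.obj (op T) :=
  (unit K V).app (op T) ⟨x⟩

theorem map_pt {T T' V : Over S} (g : T' ⟶ T) (x : T ⟶ V) :
    (QuotSh.rep K V).obj.map g.op (pt K x) = pt K (g ≫ x) :=
  (NatTrans.naturality_apply (unit K V) g.op (⟨x⟩ : ULift (T ⟶ V))).symm

theorem repMap_pt {T V W : Over S} (g : V ⟶ W) (x : T ⟶ V) :
    (QuotSh.repMap K g).hom.app (op T) (pt K x) = pt K (x ≫ g) := by
  have h := toSheafify_naturality (QuotSh.J K S)
    (Functor.whiskerRight (yoneda.map g) uliftFunctor.{u + 1, u})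
  have h2 := congrArg (fun f => (f.app (op T)) (⟨x⟩ : ULift (T ⟶ V))) h
  exact h2.symm

/-- Every section of `h_V` is locally a point of `V`. -/
theorem exists_pt {T V : Over S} (y : (QuotSh.rep K V).obj.obj (op T)) :
    ∃ R ∈ QuotSh.J K S T, ∀ ⦃T' : Over S⦄ (f : T' ⟶ T), R f →
      ∃ x : T' ⟶ V, (QuotSh.rep K V).obj.map f.op y = pt K x := by
  refine ⟨_, Presheaf.imageSieve_mem (QuotSh.J K S) (unit K V) y, fun T' f hf => ?_⟩
  obtain ⟨⟨x⟩, hx⟩ := hf
  exact ⟨x, hx.symm⟩

/-- Two points of `V` give the same section of `h_V` iff they agree locally. -/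
theorem pt_eq_iff {T V : Over S} (x y : T ⟶ V) :
    pt K x = pt K y ↔ ∃ R ∈ QuotSh.J K S T, ∀ ⦃T' : Over S⦄ (f : T' ⟶ T), R f → f ≫ x = f ≫ y := by
  constructor
  · intro h
    refine ⟨_, Presheaf.equalizerSieve_mem (QuotSh.J K S) (unit K V) (⟨x⟩ : ULift (T ⟶ V)) ⟨y⟩ h,
      fun T' f hf => ?_⟩
    exact congrArg ULift.down hf
  · rintro ⟨R, hR, h⟩
    refine (((isSheaf_iff_isSheaf_of_type _ _).1 (QuotSh.rep K V).property).isSeparated R hR).ext ?_
    intro T' f hf
    rw [map_pt, map_pt, h f hf]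

theorem pt_injective [(QuotSh.J K S).Subcanonical] {T V : Over S} :
    Function.Injective (pt K : (T ⟶ V) → _) := by
  intro x y h
  obtain ⟨R, hR, h⟩ := (pt_eq_iff K x y).1 h
  have hsh : Presieve.IsSheaf (QuotSh.J K S) (yoneda.obj V) :=
    GrothendieckTopology.Subcanonical.isSheaf_of_isRepresentable _
  exact (hsh.isSeparated R hR).ext fun T' f hf => h f hf

theorem pt_surjective [(QuotSh.J K S).Subcanonical] {T V : Over S} :
    Function.Surjective (pt K : (T ⟶ V) → _) := by
  intro y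
  obtain ⟨R, hR, h⟩ := exists_pt K y
  choose x hx using h
  have hsh : Presieve.IsSheaf (QuotSh.J K S) (yoneda.obj V) :=
    GrothendieckTopology.Subcanonical.isSheaf_of_isRepresentable _
  let fam : Presieve.FamilyOfElements (yoneda.obj V) R.arrows := fun T' f hf => x f hf
  have hc : fam.Compatible := by
    intro T₁ T₂ Z g₁ g₂ f₁ f₂ h₁ h₂ hg
    apply pt_injective K
    change pt K (g₁ ≫ x f₁ h₁) = pt K (g₂ ≫ x f₂ h₂)
    rw [← map_pt, ← map_pt, ← hx, ← hx, ← Functor.map_comp_apply, ← Functor.map_comp_apply,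
      ← op_comp, ← op_comp, hg]
  obtain ⟨z, hz, -⟩ := hsh R hR _ hc
  refine ⟨z, ?_⟩
  refine (((isSheaf_iff_isSheaf_of_type _ _).1 (QuotSh.rep K V).property).isSeparated R hR).ext ?_
  intro T' f hf
  rw [map_pt, hx f hf]
  congr 1
  exact hz f hf

theorem pt_bijective [(QuotSh.J K S).Subcanonical] {T V : Over S} :
    Function.Bijective (pt K : (T ⟶ V) → _) := ⟨pt_injective K, pt_surjective K⟩

/-- Yoneda: morphisms `h_V ⟶ F` are sections of `F` over `V`. -/
noncomputable def homEquiv {V : Over S} {F : QuotSh.Sh K S} :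
    (QuotSh.rep K V ⟶ F) ≃ F.obj.obj (op V) :=
  ((sheafificationAdjunction (QuotSh.J K S) (Type (u + 1))).homEquiv _ _).trans
    (uliftYonedaEquiv.{u + 1})

theorem homEquiv_apply {V : Over S} {F : QuotSh.Sh K S} (φ : QuotSh.rep K V ⟶ F) :
    homEquiv K φ = φ.hom.app (op V) (pt K (𝟙 V)) := by
  have h : (sheafificationAdjunction (QuotSh.J K S) (Type (u + 1))).homEquiv (pre V) F φ =
      unit K V ≫ φ.hom := Adjunction.homEquiv_unit _ _ _ _
  change uliftYonedaEquiv.{u + 1} (((sheafificationAdjunction (QuotSh.J K S)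
    (Type (u + 1))).homEquiv (pre V) F φ)) = _
  rw [h]
  rfl

/-- A morphism out of `h_V` is determined by its value at the universal point. -/
theorem hom_app_pt {T V : Over S} {F : QuotSh.Sh K S} (φ : QuotSh.rep K V ⟶ F) (x : T ⟶ V) :
    φ.hom.app (op T) (pt K x) = F.obj.map x.op (homEquiv K φ) := by
  rw [homEquiv_apply, ← NatTrans.naturality_apply, map_pt, Category.comp_id]

theorem hom_ext {V : Over S} {F : QuotSh.Sh K S} {φ ψ : QuotSh.rep K V ⟶ F}
    (h : φ.hom.app (op V) (pt K (𝟙 V)) = ψ.hom.app (op V) (pt K (𝟙 V))) : φ = ψ := by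
  apply (homEquiv K).injective
  rwa [homEquiv_apply, homEquiv_apply]

/-- The morphism `h_V ⟶ F` given by a section `y` sends the point `x` to `x^* y`. -/
theorem homEquiv_symm_pt {T V : Over S} {F : QuotSh.Sh K S} (y : F.obj.obj (op V)) (x : T ⟶ V) :
    ((homEquiv K).symm y).hom.app (op T) (pt K x) = F.obj.map x.op y := by
  rw [hom_app_pt, Equiv.apply_symm_apply]

theorem homEquiv_repMap_comp {V W : Over S} (g : V ⟶ W) {F : QuotSh.Sh K S}
    (φ : QuotSh.rep K W ⟶ F) :
    homEquiv K (QuotSh.repMap K g ≫ φ) = F.obj.map g.op (homEquiv K φ) := by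
  rw [homEquiv_apply, ← hom_app_pt]
  change φ.hom.app (op V) ((QuotSh.repMap K g).hom.app (op V) (pt K (𝟙 V))) = _
  rw [repMap_pt, Category.id_comp]

theorem homEquiv_comp {V : Over S} {F G : QuotSh.Sh K S} (φ : QuotSh.rep K V ⟶ F) (ψ : F ⟶ G) :
    homEquiv K (φ ≫ ψ) = ψ.hom.app (op V) (homEquiv K φ) := by
  rw [homEquiv_apply, homEquiv_apply]
  rfl

section quot

variable {R U : Over S} (s t : R ⟶ U)

/-- `x` and `y` are related by `R`. -/
def Rel {T : Over S} (x y : T ⟶ U) : Prop := ∃ r : T ⟶ R, r ≫ s = x ∧ r ≫ t = y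

variable {s t} in
theorem Rel.comp {T T' : Over S} (g : T' ⟶ T) {x y : T ⟶ U} (h : Rel s t x y) :
    Rel s t (g ≫ x) (g ≫ y) := by
  obtain ⟨r, rfl, rfl⟩ := h
  exact ⟨g ≫ r, by simp, by simp⟩

theorem eqvGen_comp {T T' : Over S} (g : T' ⟶ T) {x y : T ⟶ U}
    (h : Relation.EqvGen (Rel s t) x y) : Relation.EqvGen (Rel s t) (g ≫ x) (g ≫ y) := by
  induction h with
  | rel x y h => exact .rel _ _ (h.comp g)
  | refl x => exact .refl _
  | symm x y _ ih => exact .symm _ _ ih
  | trans x y z _ _ ih₁ ih₂ => exact .trans _ _ _ ih₁ ih₂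

/-- The section of `U/R` over `T` given by `x : T ⟶ U`. -/
noncomputable def quotPt {T : Over S} (x : T ⟶ U) : (QuotSh.quot K s t).obj.obj (op T) :=
  (QuotSh.quotπ K s t).hom.app (op T) (pt K x)

theorem map_quotPt {T T' : Over S} (g : T' ⟶ T) (x : T ⟶ U) :
    (QuotSh.quot K s t).obj.map g.op (quotPt K s t x) = quotPt K s t (g ≫ x) := by
  rw [quotPt, ← NatTrans.naturality_apply, map_pt, quotPt]

theorem quotPt_eq_map {T : Over S} (x : T ⟶ U) :
    quotPt K s t x = (QuotSh.quot K s t).obj.map x.op (quotPt K s t (𝟙 U)) := by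
  rw [map_quotPt, Category.comp_id]

theorem quotPt_eq_of_rel {T : Over S} {x y : T ⟶ U} (h : Rel s t x y) :
    quotPt K s t x = quotPt K s t y := by
  obtain ⟨r, rfl, rfl⟩ := h
  have := congrArg (fun f => f.hom.app (op T) (pt K r)) (QuotSh.quot_condition K s t)
  change (QuotSh.quotπ K s t).hom.app (op T) ((QuotSh.repMap K s).hom.app (op T) (pt K r)) =
    (QuotSh.quotπ K s t).hom.app (op T) ((QuotSh.repMap K t).hom.app (op T) (pt K r)) at this
  rw [repMap_pt, repMap_pt] at this
  exact this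

theorem quotPt_eq_of_eqvGen {T : Over S} {x y : T ⟶ U} (h : Relation.EqvGen (Rel s t) x y) :
    quotPt K s t x = quotPt K s t y := by
  induction h with
  | rel x y h => exact quotPt_eq_of_rel K s t h
  | refl x => rfl
  | symm x y _ ih => exact ih.symm
  | trans x y z _ _ ih₁ ih₂ => exact ih₁.trans ih₂

/-- The presheaf quotient. -/
def preQuot : (Over S)ᵒᵖ ⥤ Type (u + 1) where
  obj T := ULift.{u + 1} (Quot (Rel s t (T := T.unop)))
  map g := TypeCat.ofHom fun x => ⟨Quot.map (fun y => g.unop ≫ y) (fun _ _ h => h.comp g.unop) x.down⟩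
  map_id T := by
    ext ⟨x⟩
    induction x using Quot.ind
    simp [Quot.map]
  map_comp f g := by
    ext ⟨x⟩
    induction x using Quot.ind
    simp [Quot.map]

/-- The projection to the presheaf quotient. -/
def preQuotProj : pre U ⟶ preQuot s t where
  app T := TypeCat.ofHom fun x => ⟨Quot.mk _ x.down⟩
  naturality _ _ _ := rfl

/-- The comparison of `U/R` with the sheafification of the presheaf quotient. -/
noncomputable def toPreQuot :
    QuotSh.quot K s t ⟶ (presheafToSheaf (QuotSh.J K S) (Type (u + 1))).obj (preQuot s t) :=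
  coequalizer.desc ((presheafToSheaf (QuotSh.J K S) (Type (u + 1))).map (preQuotProj s t)) (by
    rw [← Functor.map_comp, ← Functor.map_comp]
    congr 1
    ext T ⟨x⟩
    change (⟨Quot.mk _ (x ≫ s)⟩ : ULift (Quot (Rel s t (T := T.unop)))) = ⟨Quot.mk _ (x ≫ t)⟩
    exact congrArg ULift.up (Quot.sound ⟨x, rfl, rfl⟩))

theorem quotπ_toPreQuot : QuotSh.quotπ K s t ≫ toPreQuot K s t =
    (presheafToSheaf (QuotSh.J K S) (Type (u + 1))).map (preQuotProj s t) :=
  coequalizer.π_desc _ _

theorem toPreQuot_quotPt {T : Over S} (x : T ⟶ U) :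
    (toPreQuot K s t).hom.app (op T) (quotPt K s t x) =
      (toSheafify (QuotSh.J K S) (preQuot s t)).app (op T) ⟨Quot.mk _ x⟩ := by
  have h := congrArg (fun f => f.hom.app (op T) (pt K x)) (quotπ_toPreQuot K s t)
  have h1 := toSheafify_naturality (QuotSh.J K S) (preQuotProj s t)
  have h2 := congrArg (fun f => (f.app (op T)) (⟨x⟩ : ULift (T ⟶ U))) h1
  exact h.trans h2.symm

/-- Two points of `U` give the same section of `U/R` iff they are locally related by the
equivalence relation generated by `R`. -/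
theorem quotPt_eq_iff {T : Over S} (x y : T ⟶ U) :
    quotPt K s t x = quotPt K s t y ↔ ∃ C ∈ QuotSh.J K S T, ∀ ⦃T' : Over S⦄ (f : T' ⟶ T), C f →
      Relation.EqvGen (Rel s t) (f ≫ x) (f ≫ y) := by
  constructor
  · intro h
    have h1 := congrArg ((toPreQuot K s t).hom.app (op T)) h
    rw [toPreQuot_quotPt, toPreQuot_quotPt] at h1
    refine ⟨_, Presheaf.equalizerSieve_mem (QuotSh.J K S) (toSheafify _ (preQuot s t)) _ _ h1,
      fun T' f hf => ?_⟩
    exact Quot.eqvGen_exact (congrArg ULift.down hf)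
  · rintro ⟨C, hC, h⟩
    refine (((isSheaf_iff_isSheaf_of_type _ _).1 (QuotSh.quot K s t).property).isSeparated
      C hC).ext ?_
    intro T' f hf
    rw [map_quotPt, map_quotPt, quotPt_eq_of_eqvGen K s t (h f hf)]

instance epi_quotπ : Epi (QuotSh.quotπ K s t) :=
  inferInstanceAs (Epi (coequalizer.π _ _))

/-- Every section of `U/R` lifts locally to `U`. -/
theorem exists_lift {T : Over S} (σ : (QuotSh.quot K s t).obj.obj (op T)) :
    ∃ C ∈ QuotSh.J K S T, ∀ ⦃T' : Over S⦄ (f : T' ⟶ T), C f →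
      ∃ x : T' ⟶ U, (QuotSh.quot K s t).obj.map f.op σ = quotPt K s t x := by
  have h : Sheaf.IsLocallySurjective (QuotSh.quotπ K s t) :=
    (Sheaf.isLocallySurjective_iff_epi' _ _).mpr inferInstance
  have h2 := Presheaf.imageSieve_mem (QuotSh.J K S) (QuotSh.quotπ K s t).hom σ
  refine ⟨Sieve.bind (Presheaf.imageSieve (QuotSh.quotπ K s t).hom σ).arrows
    fun T' f hf => (exists_pt K hf.choose).choose,
    (QuotSh.J K S).bind_covering h2 fun T' f hf => (exists_pt K hf.choose).choose_spec.1, ?_⟩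
  rintro T'' f ⟨T', g, f', hf', hg, rfl⟩
  obtain ⟨x, hx⟩ := (exists_pt K hf'.choose).choose_spec.2 g hg
  refine ⟨x, ?_⟩
  rw [quotPt, ← hx, NatTrans.naturality_apply, hf'.choose_spec, ← Functor.map_comp_apply,
    ← op_comp]

end quot

section equivRel

variable {R U : Over S} (s t : R ⟶ U)

/-- An equivalence relation of schemes over `S` gives an equivalence relation on `T`-points. -/
theorem equivalence_rel [IsEquivalenceRelation s t] (T : Over S) :
    Equivalence (Rel s t (T := T)) := by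
  obtain ⟨⟨e⟩⟩ := ‹IsEquivalenceRelation s t›
  refine ⟨fun x => ⟨x ≫ e.r, by simp, by simp⟩, ?_, ?_⟩
  · rintro x y ⟨r, rfl, rfl⟩
    exact ⟨r ≫ e.s, by rw [Category.assoc, e.symmetry₁], by rw [Category.assoc, e.symmetry₂]⟩
  · rintro x y z ⟨r, rfl, rfl⟩ ⟨r', hr', rfl⟩
    obtain ⟨l, hl₁, hl₂⟩ := PullbackCone.IsLimit.lift' e.isLimit r r' hr'.symm
    exact ⟨l ≫ e.t, by rw [Category.assoc, e.transitivity₁, ← Category.assoc, hl₁],
      by rw [Category.assoc, e.transitivity₂, ← Category.assoc, hl₂]⟩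

theorem eqvGen_iff [IsEquivalenceRelation s t] {T : Over S} (x y : T ⟶ U) :
    Relation.EqvGen (Rel s t) x y ↔ Rel s t x y :=
  (equivalence_rel s t T).eqvGen_iff

theorem rel_unique [IsEquivalenceRelation s t] {T : Over S} {r r' : T ⟶ R}
    (h₁ : r ≫ s = r' ≫ s) (h₂ : r ≫ t = r' ≫ t) : r = r' := by
  obtain ⟨⟨e⟩⟩ := ‹IsEquivalenceRelation s t›
  exact e.right_cancellation _ _ h₁ h₂

/-- For an equivalence relation and a subcanonical topology: two points of `U` give the same
section of `U/R` iff they are related by `R`. -/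
theorem quotPt_eq_iff_rel [IsEquivalenceRelation s t] [(QuotSh.J K S).Subcanonical]
    {T : Over S} (x y : T ⟶ U) : quotPt K s t x = quotPt K s t y ↔ Rel s t x y := by
  constructor
  · intro h
    obtain ⟨C, hC, h⟩ := (quotPt_eq_iff K s t x y).1 h
    have h' : ∀ ⦃T' : Over S⦄ (f : T' ⟶ T), C f → Rel s t (f ≫ x) (f ≫ y) :=
      fun T' f hf => (eqvGen_iff s t _ _).1 (h f hf)
    choose r hr₁ hr₂ using h'
    have hshR : Presieve.IsSheaf (QuotSh.J K S) (yoneda.obj R) :=
      GrothendieckTopology.Subcanonical.isSheaf_of_isRepresentable _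
    have hshU : Presieve.IsSheaf (QuotSh.J K S) (yoneda.obj U) :=
      GrothendieckTopology.Subcanonical.isSheaf_of_isRepresentable _
    let fam : Presieve.FamilyOfElements (yoneda.obj R) C.arrows := fun T' f hf => r f hf
    have hc : fam.Compatible := by
      intro T₁ T₂ Z g₁ g₂ f₁ f₂ h₁ h₂ hg
      apply rel_unique s t
      · change (g₁ ≫ r f₁ h₁) ≫ s = (g₂ ≫ r f₂ h₂) ≫ s
        rw [Category.assoc, Category.assoc, hr₁, hr₁, ← Category.assoc, ← Category.assoc, hg]
      · change (g₁ ≫ r f₁ h₁) ≫ t = (g₂ ≫ r f₂ h₂) ≫ t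
        rw [Category.assoc, Category.assoc, hr₂, hr₂, ← Category.assoc, ← Category.assoc, hg]
    obtain ⟨z, hz, -⟩ := hshR C hC _ hc
    replace hz : ∀ ⦃T' : Over S⦄ (f : T' ⟶ T) (hf : C f), f ≫ z = r f hf := fun T' f hf => hz f hf
    refine ⟨z, ?_, ?_⟩
    · refine (hshU.isSeparated C hC).ext fun T' f hf => ?_
      change f ≫ (z ≫ s) = f ≫ x
      rw [← Category.assoc, hz f hf, hr₁]
    · refine (hshU.isSeparated C hC).ext fun T' f hf => ?_
      change f ≫ (z ≫ t) = f ≫ y
      rw [← Category.assoc, hz f hf, hr₂]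
  · exact quotPt_eq_of_rel K s t

end equivRel

end K185.QuotBasic
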