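import Groth.Agent.GrpQ.K185.FamRep
import Groth.Agent.GrpQ.K185.Cover
import Groth.Agent.GrpQ.K185.Inst
import Mathlib.CategoryTheory.ShrinkYoneda

/-!
# Sheaves on the big site which become representable on a cover

* `repMap_comp`, `exists_repMap` : full faithfulness of `V ↦ h_V`.
* `existsUnique_pt` : if `h_{T'} ≅ Z × h_{S₁}` over `h_{S₁}`, points of `T'` over a point of `S₁` are
  sections of `Z`.
-/

set_option autoImplicit false
set_option backward.isDefEq.respectTransparency false
set_option backward.isDefEq.respectTransparency.types false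
universe w u
open CategoryTheory CategoryTheory.Limits AlgebraicGeometry Opposite
open K185.QuotBasic K185.IsQuot K185.Cover
open Groth.Agent.Desc.SecFunctor Groth.Agent.Desc.SecPresheaf Groth.Agent.Desc.SecDescent
  Groth.Agent.Picfga.OverRep
open scoped K185

namespace K185.ShRep

section general

variable {K : Precoverage Scheme.{u}} {S : Scheme.{u}}

theorem repMap_comp {V W X : Over S} (g : V ⟶ W) (h : W ⟶ X) :
    QuotSh.repMap K (g ≫ h) = QuotSh.repMap K g ≫ QuotSh.repMap K h := by
  rw [← Functor.map_comp, ← Functor.whiskerRight_comp, ← yoneda.map_comp]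

theorem homEquiv_repMap {V W : Over S} (g : V ⟶ W) : homEquiv K (QuotSh.repMap K g) = pt K g := by
  rw [homEquiv_apply, repMap_pt, Category.id_comp]

variable [(QuotSh.J K S).Subcanonical]

theorem repMap_injective {V W : Over S} : Function.Injective (QuotSh.repMap K : (V ⟶ W) → _) := by
  intro g h hgh
  apply pt_injective K
  rw [← homEquiv_repMap, ← homEquiv_repMap, hgh]

theorem exists_repMap {V W : Over S} (ψ : QuotSh.rep K V ⟶ QuotSh.rep K W) :
    ∃ g : V ⟶ W, QuotSh.repMap K g = ψ := by
  obtain ⟨g, hg⟩ := pt_surjective K (homEquiv K ψ)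
  refine ⟨g, (homEquiv K).injective ?_⟩
  rw [homEquiv_repMap, hg]

variable (Z : QuotSh.Sh K S) {T' S₁ : Over S} (a : T' ⟶ S₁)
  (φ : QuotSh.rep K T' ≅ Z ⨯ QuotSh.rep K S₁)

/-- The universal section. -/
noncomputable def univ : Z.obj.obj (op T') := homEquiv K (φ.hom ≫ prod.fst)

variable {Z} in
theorem existsUnique_pt (hφ : φ.hom ≫ prod.snd = QuotSh.repMap K a) {V : Over S} (g : V ⟶ S₁)
    (c : Z.obj.obj (op V)) : ∃! x : V ⟶ T', x ≫ a = g ∧ Z.obj.map x.op (univ Z φ) = c := by
  have key : ∀ x : V ⟶ T', (x ≫ a = g ∧ Z.obj.map x.op (univ Z φ) = c) ↔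
      QuotSh.repMap K x = prod.lift ((homEquiv K).symm c) (QuotSh.repMap K g) ≫ φ.inv := by
    intro x
    have h1 : homEquiv K (QuotSh.repMap K x ≫ φ.hom ≫ prod.fst) = Z.obj.map x.op (univ Z φ) :=
      homEquiv_repMap_comp K x _
    have h2 : QuotSh.repMap K x ≫ φ.hom ≫ prod.snd = QuotSh.repMap K (x ≫ a) := by
      rw [hφ, repMap_comp]
    rw [Iso.eq_comp_inv]
    constructor
    · rintro ⟨h3, h4⟩
      refine prod.hom_ext ?_ ?_
      · rw [prod.lift_fst, Category.assoc, Equiv.eq_symm_apply, h1, h4]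
      · rw [prod.lift_snd, Category.assoc, h2, h3]
    · intro h
      constructor
      · apply repMap_injective (K := K)
        rw [← h2, ← Category.assoc, h, prod.lift_snd]
      · rw [← h1, ← Category.assoc, h, prod.lift_fst, Equiv.apply_symm_apply]
  obtain ⟨x, hx⟩ := exists_repMap (prod.lift ((homEquiv K).symm c) (QuotSh.repMap K g) ≫ φ.inv)
  exact ⟨x, (key x).2 hx, fun y hy => repMap_injective (((key y).1 hy).trans hx.symm)⟩

/-- Isomorphisms of sheaves can be checked on sections. -/
theorem isIso_of_bijective {K : Precoverage Scheme.{u}} {F G : QuotSh.Sh K S} (α : F ⟶ G)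
    (h : ∀ T : Over S, Function.Bijective (α.hom.app (op T))) : IsIso α := by
  have h1 : ∀ T : (Over S)ᵒᵖ, IsIso (α.hom.app T) := by
    rintro ⟨T⟩
    rw [isIso_iff_bijective]
    exact h T
  have h2 : IsIso α.hom := NatIso.isIso_of_isIso_app _
  have h3 : IsIso ((sheafToPresheaf (QuotSh.J K S) (Type (u + 1))).map α) := h2
  exact isIso_of_reflects_iso α (sheafToPresheaf (QuotSh.J K S) (Type (u + 1)))

/-- A universal section of a sheaf gives an isomorphism with `h_E`. -/
theorem nonempty_rep_iso {E : Over S} (c : Z.obj.obj (op E))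
    (h : ∀ T : Over S, Function.Bijective (fun x : T ⟶ E => Z.obj.map x.op c)) :
    Nonempty (QuotSh.rep K E ≅ Z) := by
  have h1 : IsIso ((homEquiv K).symm c) := by
    refine isIso_of_bijective _ fun T => ?_
    have h2 := (h T)
    have h3 : (fun x : T ⟶ E => Z.obj.map x.op c) =
        (fun y => ((homEquiv K).symm c).hom.app (op T) y) ∘ (pt K) := by
      funext x
      exact (homEquiv_symm_pt K c x).symm
    rw [h3] at h2
    exact (Function.Bijective.of_comp_iff _ (pt_bijective K)).1 h2
  exact ⟨asIso ((homEquiv K).symm c)⟩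

omit [(QuotSh.J K S).Subcanonical] in
/-- The elementary sheaf condition for a covering morphism. -/
theorem isDesc_of_singleton {T Y : Over S} (p : Y ⟶ T) (hp : Presieve.singleton p.left ∈ K T.left) :
    IsDesc Z.obj p where
  inj _ _ h := map_injective_of_singleton Z p hp h
  glue a ha := (existsUnique_of_singleton Z p hp a fun z₁ z₂ hz => ha _ z₁ z₂ hz).exists

omit [(QuotSh.J K S).Subcanonical] in
theorem isZarSheaf (hK : Scheme.zariskiPrecoverage ≤ K) : IsZarSheaf Z.obj := by
  intro T 𝒰 x hx
  exact existsUnique_of_ofArrows Z 𝒰.j (hK _ 𝒰.openCover.mem₀) x hx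

end general

section shrink

variable {C : Type*} [Category* C] (F : Cᵒᵖ ⥤ Type w) [FunctorToTypes.Small.{u} F]

theorem shrink_map_equiv {T T' : C} (g : T' ⟶ T) (a : F.obj (op T)) :
    (FunctorToTypes.shrink.{u} F).map g.op (equivShrink (F.obj (op T)) a) =
      equivShrink (F.obj (op T')) (F.map g.op a) := by
  change equivShrink _ (F.map g.op ((equivShrink _).symm (equivShrink _ a))) = _
  rw [Equiv.symm_apply_apply]

theorem isDesc_shrink {T' T : C} {g : T' ⟶ T} (h : IsDesc F g) :
    IsDesc (FunctorToTypes.shrink.{u} F) g where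
  inj a b hab := by
    obtain ⟨a, rfl⟩ := (equivShrink (F.obj (op T))).surjective a
    obtain ⟨b, rfl⟩ := (equivShrink (F.obj (op T))).surjective b
    rw [shrink_map_equiv, shrink_map_equiv, (equivShrink _).injective.eq_iff] at hab
    rw [h.inj a b hab]
  glue a ha := by
    obtain ⟨a, rfl⟩ := (equivShrink (F.obj (op T'))).surjective a
    obtain ⟨b, hb⟩ := h.glue a fun Z z₀ z₁ hz => by
      have := ha Z z₀ z₁ hz
      rwa [shrink_map_equiv, shrink_map_equiv, (equivShrink _).injective.eq_iff] at this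
    exact ⟨equivShrink _ b, by rw [shrink_map_equiv, hb]⟩

end shrink

section zar

variable {S : Scheme.{u}} (F : (Over S)ᵒᵖ ⥤ Type w) [FunctorToTypes.Small.{u} F]

theorem isZarSheaf_shrink (h : IsZarSheaf F) : IsZarSheaf (FunctorToTypes.shrink.{u} F) := by
  intro T 𝒰 x hx
  obtain ⟨y, hy, hy'⟩ := h T 𝒰 (fun i => (equivShrink (F.obj (op (𝒰.V i)))).symm (x i)) (by
    intro i k W a b hab
    apply (equivShrink (F.obj (op W))).injective
    rw [← shrink_map_equiv, ← shrink_map_equiv, Equiv.apply_symm_apply, Equiv.apply_symm_apply]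
    exact hx i k W a b hab)
  refine ⟨equivShrink _ y, fun i => ?_, fun z hz => ?_⟩
  · rw [shrink_map_equiv, hy i, Equiv.apply_symm_apply]
  · obtain ⟨z, rfl⟩ := (equivShrink (F.obj (op T))).surjective z
    congr 1
    refine hy' z fun i => ?_
    rw [Equiv.eq_symm_apply, ← shrink_map_equiv]
    exact hz i

end zar

end K185.ShRep
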