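import Groth.Agent.GrpQ.K185.ShRepMain
import Groth.Agent.S0082
import Groth.Agent.GrpQ.K185.QcCover

/-!
# Descent of representability by affine schemes for fppf sheaves
-/

set_option autoImplicit false
set_option backward.isDefEq.respectTransparency false
set_option backward.isDefEq.respectTransparency.types false
universe w u
open CategoryTheory CategoryTheory.Limits AlgebraicGeometry Opposite
open scoped K185

namespace K185.ShRep

theorem exists_rep_affine {S S' : Scheme.{u}} (f : S' ⟶ S)
    [Flat f] [Surjective f] [LocallyOfFinitePresentation f]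
    (Z : QuotSh.Sh Scheme.fppfPrecoverage S)
    (T' : Over S) (a : T' ⟶ Over.mk f) [IsAffineHom a.left]
    (φ : QuotSh.rep Scheme.fppfPrecoverage T' ≅ Z ⨯ QuotSh.rep Scheme.fppfPrecoverage (Over.mk f))
    (hφ : φ.hom ≫ prod.snd = QuotSh.repMap Scheme.fppfPrecoverage a) :
    ∃ T : Over S, IsAffineHom T.hom ∧ Nonempty (QuotSh.rep Scheme.fppfPrecoverage T ≅ Z) := by
  have := Groth.Agent.S0082.result.{u}
  exact K185.ShRep.exists_rep φ hφ
    (fun T => by
      change Presieve.singleton (pullback.snd f T.hom) ∈ _
      exact (pullback.snd f T.hom).singleton_mem_fppfPrecoverage)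
    Scheme.zariskiPrecoverage_le_fppfPrecoverage
    (fun V hV => K185.QcCover.exists_of_isOpenMap f f.isOpenMap f.surjective V hV.isCompact)
    @IsAffineHom (fun g hg => by
      have : IsAffineHom g := hg
      refine ⟨inferInstance, fun V hV => ?_⟩
      have h1 : IsAffine (g ⁻¹ᵁ V) := hV.preimage g
      infer_instance) inferInstance

end K185.ShRep
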