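import Groth.Agent.GrpQ.K185.ShRep

/-!
# Descent of representability for sheaves on the big site

`exists_rep` : a sheaf `Z` on the big `K`-site of `S` such that `Z × h_{S'}` is represented by an object of
`Over S'` with a quasi-affine property `P` (local, stable under base change, descending along fpqc morphisms)
is representable by an object with the property `P`.
-/

set_option autoImplicit false
set_option backward.isDefEq.respectTransparency false
set_option backward.isDefEq.respectTransparency.types false
universe w u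
open CategoryTheory CategoryTheory.Limits AlgebraicGeometry Opposite
open K185.QuotBasic K185.IsQuot K185.Cover
open Groth.Agent.Desc.SecFunctor Groth.Agent.Desc.SecPresheaf Groth.Agent.Desc.SecDescent
  Groth.Agent.Picfga.OverRep Groth.Agent.Ega2.QuasiAffine
open scoped K185

namespace K185.ShRep

variable {K : Precoverage Scheme.{u}} {S : Scheme.{u}} [(QuotSh.J K S).Subcanonical]
  {Z : QuotSh.Sh K S} {S' : Scheme.{u}} {f : S' ⟶ S} {T' : Over S} {a : T' ⟶ Over.mk f}
  (φ : QuotSh.rep K T' ≅ Z ⨯ QuotSh.rep K (Over.mk f))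
  (hφ : φ.hom ≫ prod.snd = QuotSh.repMap K a)

/-- The other projection. -/
noncomputable abbrev projX (T : Over S) : Over.mk (pullback.snd f T.hom ≫ T.hom) ⟶ Over.mk f :=
  Over.homMk (pullback.fst f T.hom) pullback.condition

include hφ

theorem small (hK : ∀ T : Over S, Presieve.singleton (projT f T).left ∈ K T.left) :
    FunctorToTypes.Small.{u} Z.obj := by
  rintro ⟨V⟩
  choose x hx hx' using fun c : Z.obj.obj (op V) =>
    (existsUnique_pt a φ hφ (projX V) (Z.obj.map (projT f V).op c)).exists
  refine small_of_injective (f := x) fun c d hcd => ?_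
  apply map_injective_of_singleton Z (projT f V) (hK V)
  rw [← hx' c, ← hx' d, hcd]

theorem bijective_pt {W : Over S'} : Function.Bijective
    (fun w : W ⟶ Over.mk (a.left : T'.left ⟶ S') =>
      Z.obj.map (Over.homMk w.left (by
        change w.left ≫ T'.hom = W.hom ≫ f
        rw [← Over.w w]
        change _ = (w.left ≫ a.left) ≫ f
        rw [Category.assoc]
        exact congrArg _ (Over.w a).symm) : (Over.map f).obj W ⟶ T').op (univ Z φ)) := by
  let g : (Over.map f).obj W ⟶ Over.mk f := Over.homMk W.hom rfl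
  constructor
  · intro w w' hw
    have h := (existsUnique_pt a φ hφ g (Z.obj.map (Over.homMk w.left (by
        change w.left ≫ T'.hom = W.hom ≫ f
        rw [← Over.w w]
        change _ = (w.left ≫ a.left) ≫ f
        rw [Category.assoc]
        exact congrArg _ (Over.w a).symm) : (Over.map f).obj W ⟶ T').op (univ Z φ))).unique
      ⟨Over.OverMorphism.ext (Over.w w), rfl⟩ ⟨Over.OverMorphism.ext (Over.w w'), hw.symm⟩
    have h' := congrArg (fun q => q.left) h
    exact Over.OverMorphism.ext h'
  · intro c
    obtain ⟨x, ⟨hx, hx'⟩, -⟩ := existsUnique_pt a φ hφ g c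
    exact ⟨Over.homMk x.left (congrArg CommaMorphism.left hx), hx'⟩

theorem exists_restrRep [FunctorToTypes.Small.{u} Z.obj] :
    Nonempty ((restr f (FunctorToTypes.shrink.{u} Z.obj)).RepresentableBy
      (Over.mk (a.left : T'.left ⟶ S'))) := by
  refine ⟨{
    homEquiv := fun {W} => (Equiv.ofBijective _ (bijective_pt φ hφ (W := W))).trans
      (equivShrink (Z.obj.obj (op ((Over.map f).obj W))))
    homEquiv_comp := fun {W W'} g w => ?_ }⟩
  change equivShrink _ _ = (FunctorToTypes.shrink.{u} Z.obj).map ((Over.map f).map g).op (equivShrink _ _)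
  rw [shrink_map_equiv]
  congr 1
  rw [Equiv.ofBijective_apply, Equiv.ofBijective_apply, ← Functor.map_comp_apply, ← op_comp]
  rfl

/-- **Descent of representability for sheaves.** -/
theorem exists_rep [Flat f] [Surjective f]
    (hK : ∀ T : Over S, Presieve.singleton (projT f T).left ∈ K T.left)
    (hzar : Scheme.zariskiPrecoverage ≤ K)
    (hc : ∀ V : S.Opens, IsAffineOpen V → ∃ W : S'.Opens, IsCompact (W : Set S') ∧
      f.base '' (W : Set S') = (V : Set S))
    (P : MorphismProperty Scheme.{u}) [IsZariskiLocalAtTarget P] [P.IsStableUnderBaseChange]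
    [P.DescendsAlong (@Surjective ⊓ @Flat ⊓ @QuasiCompact)]
    (hP : ∀ {X Y : Scheme.{u}} (g : X ⟶ Y), P g → Mor2.IsQuasiAffine g) (ha : P a.left) :
    ∃ T : Over S, P T.hom ∧ Nonempty (QuotSh.rep K T ≅ Z) := by
  have := small φ hφ hK
  obtain ⟨e⟩ := exists_restrRep φ hφ
  let F := FunctorToTypes.shrink.{u} Z.obj
  have hps : IsPSheaf f F := fun T => isDesc_shrink _ (isDesc_of_singleton Z _ (hK T))
  have hzs : IsZarSheaf F := isZarSheaf_shrink _ (isZarSheaf Z hzar)
  have hds : ∀ {T' T : Over S} (g : T' ⟶ T), Flat g.left → Surjective g.left → QuasiCompact g.left →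
      IsDesc F g := by
    intro T' T g h1 h2 h3
    refine IsDesc.of_presheaf_iso g (isoSec e hps).symm (isDesc_secFunctor _ g ?_)
    intro Z z
    infer_instance
  obtain ⟨E, hE, ⟨r⟩⟩ := Groth.Agent.Sga3.H828.FpqcRep.exists_rep_of_fpqcCover F hzs hds P f hc (by
    intro s'
    refine ⟨⊤, trivial, (Over.pullback (⊤ : S'.Opens).ι).obj (Over.mk (a.left : T'.left ⟶ S')), ?_, ?_, ⟨?_⟩⟩
    · exact MorphismProperty.pullback_snd (P := P) _ _ ha
    · exact hP _ (MorphismProperty.pullback_snd (P := P) _ _ ha)
    · exact (pullRep _ e).ofIso (restrCompIso rfl F))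
  refine ⟨E, hE, nonempty_rep_iso Z ((equivShrink (Z.obj.obj (op E))).symm (r.homEquiv (𝟙 E))) fun T => ?_⟩
  have h1 : (fun x : T ⟶ E => Z.obj.map x.op ((equivShrink (Z.obj.obj (op E))).symm (r.homEquiv (𝟙 E)))) =
      (fun x : T ⟶ E => (equivShrink (Z.obj.obj (op T))).symm (r.homEquiv x)) := by
    funext x
    rw [Equiv.eq_symm_apply, ← shrink_map_equiv, Equiv.apply_symm_apply]
    exact (r.homEquiv_eq x).symm
  rw [h1]
  exact (r.homEquiv.trans (equivShrink (Z.obj.obj (op T))).symm).bijective

end K185.ShRep
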