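import Groth.Agent.GrpQ.K185.FamSub
import Mathlib.CategoryTheory.Subobject.Basic

/-!
# Descent of subobjects along a flat surjective quasi-compact morphism
-/

set_option autoImplicit false
universe u
open CategoryTheory CategoryTheory.Limits AlgebraicGeometry Opposite

namespace K185.SubDesc

theorem fac_pullback {X Y : Scheme.{u}} (f : X ⟶ Y) (P : Subobject Y) {T : Scheme.{u}} (x : T ⟶ X) :
    (∃ v, v ≫ ((Subobject.pullback f).obj P).arrow = x) ↔ ∃ v, v ≫ P.arrow = x ≫ f := by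
  have sq := Subobject.isPullback f P
  constructor
  · rintro ⟨v, rfl⟩
    exact ⟨v ≫ Subobject.pullbackπ f P, by rw [Category.assoc, sq.w, Category.assoc]⟩
  · rintro ⟨v, hv⟩
    exact ⟨sq.lift v x hv, sq.lift_snd _ _ _⟩

theorem le_of_fac {X : Scheme.{u}} {P₁ P₂ : Subobject X}
    (h : ∀ ⦃T : Scheme.{u}⦄ (x : T ⟶ X), (∃ v, v ≫ P₁.arrow = x) → ∃ v, v ≫ P₂.arrow = x) : P₁ ≤ P₂ := by
  obtain ⟨v, hv⟩ := h P₁.arrow ⟨𝟙 _, Category.id_comp _⟩
  exact Subobject.le_of_comm v hv

theorem sub_ext {X : Scheme.{u}} {P₁ P₂ : Subobject X}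
    (h : ∀ ⦃T : Scheme.{u}⦄ (x : T ⟶ X), (∃ v, v ≫ P₁.arrow = x) ↔ ∃ v, v ≫ P₂.arrow = x) : P₁ = P₂ :=
  le_antisymm (le_of_fac fun _ x => (h x).1) (le_of_fac fun _ x => (h x).2)

theorem fac_mk {X Z : Scheme.{u}} (z : Z ⟶ X) [Mono z] {T : Scheme.{u}} (x : T ⟶ X) :
    (∃ v, v ≫ (Subobject.mk z).arrow = x) ↔ ∃ v, v ≫ z = x := by
  constructor
  · rintro ⟨v, rfl⟩
    exact ⟨v ≫ (Subobject.underlyingIso z).hom, by rw [Category.assoc, Subobject.underlyingIso_hom_comp_eq_mk]⟩
  · rintro ⟨v, rfl⟩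
    exact ⟨v ≫ (Subobject.underlyingIso z).inv, by rw [Category.assoc, Subobject.underlyingIso_arrow]⟩

section

variable {X X' : Scheme.{u}} (π : X ⟶ X')

theorem stable_iff (Y : Subobject X) :
    (Subobject.pullback (pullback.fst π π)).obj Y = (Subobject.pullback (pullback.snd π π)).obj Y ↔
    Comp (ι := PUnit.{u + 1}) (fun _ => π) (fun _ => Y.arrow) := by
  constructor
  · intro h i j T x y hxy hx
    have h1 : (∃ v, v ≫ ((Subobject.pullback (pullback.fst π π)).obj Y).arrow = pullback.lift x y hxy) := by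
      rw [fac_pullback, pullback.lift_fst]; exact hx
    rw [h, fac_pullback, pullback.lift_snd] at h1
    exact h1
  · intro h
    refine sub_ext fun T x => ?_
    rw [fac_pullback, fac_pullback]
    exact ⟨h (i := ⟨⟩) (j := ⟨⟩) _ _ (by rw [Category.assoc, pullback.condition, Category.assoc]),
      h (i := ⟨⟩) (j := ⟨⟩) _ _ (by rw [Category.assoc, ← pullback.condition, Category.assoc])⟩

theorem pullback_stable (Y : Subobject X') :
    (Subobject.pullback (pullback.fst π π)).obj ((Subobject.pullback π).obj Y) =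
      (Subobject.pullback (pullback.snd π π)).obj ((Subobject.pullback π).obj Y) := by
  rw [← Subobject.pullback_comp, ← Subobject.pullback_comp, pullback.condition]

variable [Flat π] [Surjective π] [QuasiCompact π]

theorem subobject_pullback_injective : Function.Injective (Subobject.pullback π).obj := by
  have key : ∀ (P : Subobject X') ⦃T : Scheme.{u}⦄ (x : T ⟶ X'), (∃ v, v ≫ P.arrow = x) ↔
      ∃ v, v ≫ ((Subobject.pullback π).obj P).arrow = pullback.fst π x := by
    intro P T x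
    rw [fac_pullback]
    refine ⟨fun ⟨v, hv⟩ => ⟨pullback.snd π x ≫ v, by rw [Category.assoc, hv, pullback.condition]⟩, fun h => ?_⟩
    refine exists_fac_of_local P.arrow x _ (pullback.snd π x).singleton_mem_fpqcPrecoverage ?_
    rintro _ _ ⟨⟩
    rwa [← pullback.condition]
  intro P₁ P₂ h
  refine sub_ext fun T x => ?_
  rw [key, key]
  rw [h]

theorem ofArrows_punit_mem :
    Presieve.ofArrows (fun _ : PUnit.{u + 1} => X) (fun _ => π) ∈ Scheme.fpqcPrecoverage X' := by
  rw [Presieve.ofArrows_pUnit]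
  exact π.singleton_mem_fpqcPrecoverage

omit [Flat π] [Surjective π] [QuasiCompact π] in
theorem exists_subobject {Y : Subobject X} {Z : Scheme.{u}} (z : Z ⟶ X') [Mono z]
    (hY : Comp (ι := PUnit.{u + 1}) (fun _ => π) (fun _ => Y.arrow))
    (h : ∀ ⦃T : Scheme.{u}⦄ (h : T ⟶ X'), famQ (ι := PUnit.{u + 1}) (fun _ => π) (fun _ => Y.arrow) h ↔
      ∃ v : T ⟶ Z, v ≫ z = h) : (Subobject.pullback π).obj (Subobject.mk z) = Y := by
  refine sub_ext fun T x => ?_
  rw [fac_pullback, fac_mk, ← h]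
  exact famQ_iff hY (i := ⟨⟩) x

end

end K185.SubDesc
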